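import Cfsg.Agent.OrthMax.Basic

/-!
# The parity of the meet of a maximal totally singular subspace and its image

A reflection changes the dimension of the meet by exactly one, so members of `Ω` keep its parity.
-/

set_option autoImplicit false
set_option linter.unusedSectionVars false

namespace CfsgLib.OrthExtR

open Matrix Module CfsgLib.Spinor CfsgLib.OrthMax

variable {F : Type*} [Field F] {ι : Type} [Fintype ι] [DecidableEq ι] {Q : QuadraticForm F (ι → F)}

/-- Maximal totally singular, of half the dimension. -/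
def IsHalf (Q : QuadraticForm F (ι → F)) (L : Submodule F (ι → F)) : Prop :=
  (∀ x ∈ L, Q x = 0) ∧ 2 * finrank F L = Fintype.card ι

theorem IsHalf.qperp_eq (hQ : (QuadraticMap.polarBilin Q).Nondegenerate) {L : Submodule F (ι → F)}
    (hL : IsHalf Q L) : qperp Q L = L := by
  refine (Submodule.eq_of_le_of_finrank_le (fun x hx => mem_qperp.2 fun w hw => polar_eq_zero hL.1 hw hx) ?_).symm
  rw [finrank_qperp hQ]
  have := hL.2
  omega

theorem IsHalf.map {L : Submodule F (ι → F)} (hL : IsHalf Q L) (f : (ι → F) →ₗ[F] (ι → F))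
    (hf : ∀ x, Q (f x) = Q x) (hinj : Function.Injective f) : IsHalf Q (L.map f) := by
  refine ⟨fun x hx => ?_, ?_⟩
  · obtain ⟨y, hy, rfl⟩ := Submodule.mem_map.1 hx
    rw [hf, hL.1 y hy]
  · rw [← (Submodule.equivMapOfInjective f hinj L).finrank_eq, hL.2]

/-- One reflection changes the parity. -/
theorem finrank_inf_refl (hQ : (QuadraticMap.polarBilin Q).Nondegenerate) {L M : Submodule F (ι → F)}
    (hL : IsHalf Q L) (hM : IsHalf Q M) {v : ι → F} (hv : Q v ≠ 0) :
    finrank F ↥(L ⊓ M.map (refl Q v)) + 1 = finrank F ↥(L ⊓ M) ∨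
      finrank F ↥(L ⊓ M.map (refl Q v)) = finrank F ↥(L ⊓ M) + 1 := by
  obtain ⟨φ, hφ⟩ : ∃ φ : (ι → F) →ₗ[F] F, φ = QuadraticMap.polarBilin Q v := ⟨_, rfl⟩
  have hφv : ∀ x, φ x = QuadraticMap.polar (⇑Q) v x := fun x => by rw [hφ, QuadraticMap.polarBilin_apply_apply]
  have hfix : ∀ x, φ x = 0 → refl Q v x = x := fun x hx => by
    rw [refl_apply, ← hφv, hx, mul_zero, zero_smul, sub_zero]
  -- the common part
  have hC : L ⊓ M.map (refl Q v) ⊓ LinearMap.ker φ = L ⊓ M ⊓ LinearMap.ker φ := by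
    ext x
    simp only [Submodule.mem_inf, LinearMap.mem_ker, Submodule.mem_map]
    constructor
    · rintro ⟨⟨hxL, y, hy, rfl⟩, hx⟩
      have h1 := hfix _ hx
      rw [refl_refl Q hv] at h1
      exact ⟨⟨hxL, h1 ▸ hy⟩, hx⟩
    · rintro ⟨⟨hxL, hxM⟩, hx⟩
      exact ⟨⟨hxL, x, hxM, hfix _ hx⟩, hx⟩
  have hcod : ∀ X : Submodule F (ι → F), (X ≤ LinearMap.ker φ ∧
      finrank F ↥(X ⊓ LinearMap.ker φ) = finrank F X) ∨
      (¬ X ≤ LinearMap.ker φ ∧ finrank F ↥(X ⊓ LinearMap.ker φ) + 1 = finrank F X) := by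
    intro X
    by_cases h : X ≤ LinearMap.ker φ
    · exact Or.inl ⟨h, by rw [inf_eq_left.2 h]⟩
    · refine Or.inr ⟨h, ?_⟩
      have h1 := LinearMap.finrank_range_add_finrank_ker (φ.domRestrict X)
      have h2 : LinearMap.range (φ.domRestrict X) = ⊤ := by
        obtain ⟨x, hx, hx0⟩ := SetLike.not_le_iff_exists.1 h
        refine LinearMap.range_eq_top.2 fun t => ⟨(t / φ x) • ⟨x, hx⟩, ?_⟩
        rw [map_smul, LinearMap.domRestrict_apply, smul_eq_mul, div_mul_cancel₀ _ (by simpa using hx0)]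
      have h3 : finrank F (LinearMap.ker (φ.domRestrict X)) = finrank F ↥(X ⊓ LinearMap.ker φ) := by
        rw [LinearMap.ker_domRestrict, ← Submodule.map_comap_subtype]
        exact (Submodule.equivMapOfInjective X.subtype Subtype.val_injective _).finrank_eq
      rw [h2, finrank_top, Module.finrank_self, h3] at h1
      omega
  have hnot : ¬ (L ⊓ M ≤ LinearMap.ker φ ∧ L ⊓ M.map (refl Q v) ≤ LinearMap.ker φ) := by
    rintro ⟨h1, h2⟩
    have hsum : v ∈ L ⊔ M := by
      rw [← qperp_qperp hQ (L ⊔ M), mem_qperp]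
      intro w hw
      have hwL : w ∈ qperp Q L := mem_qperp.2 fun u hu => mem_qperp.1 hw u (Submodule.mem_sup_left hu)
      have hwM : w ∈ qperp Q M := mem_qperp.2 fun u hu => mem_qperp.1 hw u (Submodule.mem_sup_right hu)
      rw [hL.qperp_eq hQ] at hwL
      rw [hM.qperp_eq hQ] at hwM
      have := LinearMap.mem_ker.1 (h1 (Submodule.mem_inf.2 ⟨hwL, hwM⟩))
      rwa [hφv, QuadraticMap.polar_comm] at this
    obtain ⟨l, hl, m, hm, rfl⟩ := Submodule.mem_sup.1 hsum
    have hlm : Q (l + m) = QuadraticMap.polar (⇑Q) l m := by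
      rw [QuadraticMap.map_add (⇑Q), hL.1 l hl, hM.1 m hm, zero_add, zero_add]
    have hvl : QuadraticMap.polar (⇑Q) (l + m) l = Q (l + m) := by
      rw [QuadraticMap.polar_add_left, polar_self', hL.1 l hl, mul_zero, zero_add, hlm,
        QuadraticMap.polar_comm]
    have hlr : l ∈ M.map (refl Q (l + m)) := by
      refine Submodule.mem_map.2 ⟨-m, M.neg_mem hm, ?_⟩
      rw [refl_apply, QuadraticMap.polar_neg_right, QuadraticMap.polar_add_left, polar_self', hM.1 m hm,
        mul_zero, add_zero, ← hlm, mul_neg, inv_mul_cancel₀ hv, neg_one_smul, sub_neg_eq_add]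
      abel
    have := LinearMap.mem_ker.1 (h2 (Submodule.mem_inf.2 ⟨hl, hlr⟩))
    rw [hφv, hvl] at this
    exact hv this
  have hnot' : ¬ (¬ L ⊓ M ≤ LinearMap.ker φ ∧ ¬ L ⊓ M.map (refl Q v) ≤ LinearMap.ker φ) := by
    rintro ⟨h1, h2⟩
    obtain ⟨x, hx, hx0⟩ := SetLike.not_le_iff_exists.1 h1
    obtain ⟨y, hy, hy0⟩ := SetLike.not_le_iff_exists.1 h2
    obtain ⟨z, hz, hzy⟩ := Submodule.mem_map.1 (Submodule.mem_inf.1 hy).2
    rw [LinearMap.mem_ker, hφv] at hx0 hy0
    have hz' : z = y - ((Q v)⁻¹ * QuadraticMap.polar (⇑Q) v y) • v := by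
      rw [← refl_apply, ← hzy, refl_refl Q hv]
    have := polar_eq_zero hM.1 (Submodule.mem_inf.1 hx).2 hz
    rw [hz', QuadraticMap.polar_sub_right, QuadraticMap.polar_smul_right, smul_eq_mul,
      polar_eq_zero hL.1 (Submodule.mem_inf.1 hx).1 (Submodule.mem_inf.1 hy).1, QuadraticMap.polar_comm (⇑Q) x v,
      zero_sub, neg_eq_zero] at this
    exact mul_ne_zero (mul_ne_zero (inv_ne_zero hv) hy0) hx0 this
  rcases hcod (L ⊓ M) with ⟨ha, ea⟩ | ⟨ha, ea⟩ <;>
    rcases hcod (L ⊓ M.map (refl Q v)) with ⟨hb, eb⟩ | ⟨hb, eb⟩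
  · exact absurd ⟨ha, hb⟩ hnot
  · rw [hC] at eb; omega
  · rw [hC] at eb; omega
  · exact absurd ⟨ha, hb⟩ hnot'

/-- The parity along a product of reflections. -/
theorem parity_prod (hQ : (QuadraticMap.polarBilin Q).Nondegenerate) {L : Submodule F (ι → F)}
    (hL : IsHalf Q L) : ∀ vs : List (ι → F), (∀ v ∈ vs, Q v ≠ 0) →
      IsHalf Q (L.map (vs.map (refl Q)).prod) ∧
        (finrank F ↥(L ⊓ L.map (vs.map (refl Q)).prod) + vs.length) % 2 = finrank F L % 2 := by
  intro vs
  induction vs with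
  | nil =>
    intro _
    have e : L.map (([] : List (ι → F)).map (refl Q)).prod = L := by simp [Module.End.one_eq_id]
    rw [e, inf_idem, List.length_nil, add_zero]
    exact ⟨hL, rfl⟩
  | cons v vs ih =>
    intro hvs
    have hv := hvs v List.mem_cons_self
    obtain ⟨h1, h2⟩ := ih fun w hw => hvs w (List.mem_cons_of_mem _ hw)
    rw [List.map_cons, List.prod_cons, List.length_cons, Module.End.mul_eq_comp, Submodule.map_comp]
    refine ⟨h1.map _ (quad_refl Q hv) (Function.LeftInverse.injective (refl_refl Q hv)), ?_⟩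
    rcases finrank_inf_refl hQ hL h1 hv with h | h <;> omega

/-- Members of `Ω` keep the parity of the meet with a maximal totally singular subspace. -/
theorem parity_of_mem_omega (h2 : (2 : F) ≠ 0) (hQ : (QuadraticMap.polarBilin Q).Nondegenerate)
    {L : Submodule F (ι → F)} (hL : IsHalf Q L) {g : Isom Q} (hg : g ∈ Cfsg.Omega F ⇑Q) :
    finrank F ↥(L ⊓ L.map (Matrix.toLin' (mat Q g))) % 2 = finrank F L % 2 := by
  obtain ⟨vs, hvs⟩ := exists_isReflProd h2 hQ g
  obtain ⟨k, hk⟩ := (even_and_isSquare_of_mem_omega hQ (exists_isReflProd h2 hQ) hg hvs).1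
  rw [hvs.2, toLin'_prod]
  have := (parity_prod hQ hL vs hvs.1).2
  omega

end CfsgLib.OrthExtR
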