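import Cfsg.Agent.OrthExtR.Line
import Cfsg.Agent.OrthExtR.Parity

/-!
# Totally singular planes of a four-dimensional space over the cubic field

The root elements of a plane, and the members of a group above `Ω ∩ N(K)` which respect one.
-/

set_option autoImplicit false
set_option linter.unusedSectionVars false
set_option maxHeartbeats 1000000

namespace CfsgLib.OrthExtR

open Matrix Module Polynomial CfsgLib.Spinor CfsgLib.OrthMax

variable {F : Type*} [Field F] [Fintype F] {ι : Type} [Fintype ι] [DecidableEq ι]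
  {Q : QuadraticForm F (ι → F)}
variable {K : Type*} [Field K] [Algebra F K] [Module K (ι → F)] [IsScalarTower F K (ι → F)]

/-- Fixed and moved into. -/
def InRad (g : Isom Q) (a : ι → F) : Prop := mat Q g *ᵥ a = a ∧ ∃ z, a = mat Q g *ᵥ z - z

namespace Ext

variable (c : Ext Q K)
include c

/-- Two independent vectors spanning a totally singular plane. -/
def IsPlane (a b : ι → F) : Prop :=
  c.h a a = 0 ∧ c.h b b = 0 ∧ c.h a b = 0 ∧ ∀ k l : K, k • a + l • b = 0 → k = 0 ∧ l = 0

omit c in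
/-- The plane, over the ground field. -/
def plane (K : Type*) [Field K] [Algebra F K] [Module K (ι → F)] [IsScalarTower F K (ι → F)] (a b : ι → F) :
    Submodule F (ι → F) :=
  (Submodule.span K ({a, b} : Set (ι → F))).restrictScalars F

omit c in
theorem mem_plane {a b x : ι → F} : x ∈ plane K a b ↔ ∃ k l : K, k • a + l • b = x :=
  Submodule.mem_span_pair

/-- `g` is the root element with parameter `e` of the plane. -/
def IsRoot (a b : ι → F) (e : K) (g : Isom Q) : Prop :=
  ∀ x, mat Q g *ᵥ x = x + ((c.h a x * e) • b - (e * c.h b x) • a)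

variable {c}

theorem IsPlane.li {a b : ι → F} (hp : c.IsPlane a b) : LinearIndependent K ![a, b] :=
  LinearIndependent.pair_iff.2 hp.2.2.2

theorem IsPlane.left_ne {a b : ι → F} (hp : c.IsPlane a b) : a ≠ 0 := fun e =>
  one_ne_zero (hp.2.2.2 1 0 (by rw [e, smul_zero, zero_smul, add_zero])).1

theorem IsPlane.h_comb {a b x y : ι → F} (hp : c.IsPlane a b) (hx : x ∈ plane K a b) (hy : y ∈ plane K a b) :
    c.h x y = 0 := by
  obtain ⟨k, l, rfl⟩ := mem_plane.1 hx
  obtain ⟨k', l', rfl⟩ := mem_plane.1 hy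
  simp [hp.1, hp.2.1, hp.2.2.1, c.symm b a]

theorem IsPlane.finrank_plane {a b : ι → F} (hp : c.IsPlane a b) : finrank F (plane K a b) = 6 := by
  have h1 := finrank_span_eq_card hp.li
  rw [Matrix.range_cons, Matrix.range_cons, Matrix.range_empty, Set.union_empty, Set.singleton_union,
    Fintype.card_fin] at h1
  have := Module.finrank_mul_finrank F K (Submodule.span K ({a, b} : Set (ι → F)))
  rw [c.deg, h1] at this
  exact this.symm

theorem IsPlane.isHalf {a b : ι → F} (hp : c.IsPlane a b) (hd : finrank K (ι → F) = 4) :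
    IsHalf Q (plane K a b) := by
  refine ⟨fun x hx => c.quad_zero (hp.h_comb hx hx), ?_⟩
  have := Module.finrank_mul_finrank F K (ι → F)
  rw [c.deg, hd, Module.finrank_pi] at this
  rw [hp.finrank_plane]
  omega

/-- A plane is its own orthogonal. -/
theorem IsPlane.mem_iff {a b : ι → F} (hp : c.IsPlane a b) (hd : finrank K (ι → F) = 4) {x : ι → F} :
    x ∈ plane K a b ↔ c.h a x = 0 ∧ c.h b x = 0 := by
  refine ⟨fun hx => ⟨hp.h_comb (mem_plane.2 ⟨1, 0, by simp⟩) hx, hp.h_comb (mem_plane.2 ⟨0, 1, by simp⟩) hx⟩,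
    fun hx => ?_⟩
  rw [← (hp.isHalf hd).qperp_eq c.nondeg, mem_qperp]
  intro w hw
  obtain ⟨k, l, rfl⟩ := mem_plane.1 hw
  rw [c.tr]
  simp [hx.1, hx.2]

theorem IsPlane.exists_dual {a b : ι → F} (hp : c.IsPlane a b) :
    (∃ x, c.h a x = 1 ∧ c.h b x = 0) ∧ ∃ x, c.h a x = 0 ∧ c.h b x = 1 := by
  constructor
  · obtain ⟨x, h1, h2⟩ := c.exists_dual_perp (a := a) (b := b) fun k hk =>
      one_ne_zero (hp.2.2.2 1 (-k) (by rw [hk, one_smul, neg_smul, add_neg_cancel])).1
    exact ⟨x, h2, h1⟩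
  · exact c.exists_dual_perp (a := b) (b := a) fun k hk =>
      one_ne_zero (hp.2.2.2 (-k) 1 (by rw [hk, one_smul, neg_smul, neg_add_cancel])).2

variable (c)

theorem exists_root_elt {M : Subgroup (Isom Q)} (hM : Below K M) {a b : ι → F} (hp : c.IsPlane a b) (e : K) :
    ∃ g ∈ M, Lin K g ∧ g ∈ Cfsg.Omega F ⇑Q ∧ c.IsRoot a b e g := by
  obtain ⟨g, hgM, hgl, hgΩ, hg⟩ := c.exists_eK hM hp.1 (w := e • b) (by rw [map_smul, hp.2.2.1, smul_zero])
  refine ⟨g, hgM, hgl, hgΩ, fun x => ?_⟩
  rw [hg, eK_apply, show c.q (e • b) = 0 by simp [q, hp.2.1], LinearMap.map_smul₂, zero_mul, zero_smul, sub_zero,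
    smul_smul, smul_eq_mul]

variable {c}

theorem IsRoot.fix {a b : ι → F} {e : K} {g : Isom Q} (hg : c.IsRoot a b e g) (hp : c.IsPlane a b)
    {x : ι → F} (hx : x ∈ plane K a b) : mat Q g *ᵥ x = x := by
  rw [hg, hp.h_comb (mem_plane.2 ⟨1, 0, by simp⟩) hx, hp.h_comb (mem_plane.2 ⟨0, 1, by simp⟩) hx]
  simp

theorem IsRoot.mem_of_fix {a b : ι → F} {e : K} {g : Isom Q} (hg : c.IsRoot a b e g) (hp : c.IsPlane a b)
    (hd : finrank K (ι → F) = 4) (he : e ≠ 0) {x : ι → F} (hx : mat Q g *ᵥ x = x) : x ∈ plane K a b := by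
  rw [hg, add_eq_left, sub_eq_add_neg, ← neg_smul, add_comm] at hx
  obtain ⟨h1, h2⟩ := hp.2.2.2 _ _ hx
  exact (hp.mem_iff hd).2
    ⟨(mul_eq_zero.1 h2).resolve_right he, (mul_eq_zero.1 (neg_eq_zero.1 h1)).resolve_left he⟩

theorem IsRoot.ne_one {a b : ι → F} {e : K} {g : Isom Q} (hg : c.IsRoot a b e g) (hp : c.IsPlane a b)
    (hd : finrank K (ι → F) = 4) (he : e ≠ 0) : g ≠ 1 := by
  intro e1
  obtain ⟨⟨x, hx, -⟩, -⟩ := hp.exists_dual
  have := hg.mem_of_fix hp hd he (x := x) (by rw [e1, mat_one, one_mulVec])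
  rw [((hp.mem_iff hd).1 this).1] at hx
  exact zero_ne_one hx

variable (c)

/-! ### Members normalising the field -/

/-- The automorphism of a member normalising the field. -/
theorem exists_semilinear {g : Isom Q} (hg : Norm K g) :
    ∃ σ : K ≃ₐ[F] K, (∀ (k : K) x, mat Q g *ᵥ (k • x) = σ k • (mat Q g *ᵥ x)) ∧
      ∀ x y, c.h (mat Q g *ᵥ x) (mat Q g *ᵥ y) = σ (c.h x y) := by
  have := c.finite
  choose σ hσ using hg
  obtain ⟨u, hu, -⟩ := c.exists_singular
  have hu' := mulVec_ne_zero g hu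
  have hfun : ∀ k k', mat Q g *ᵥ (k • u) = k' • (mat Q g *ᵥ u) → σ k = k' := fun k k' e =>
    smul_left_injective K hu' ((hσ k u).symm.trans e)
  let σh : K →ₐ[F] K :=
    { toFun := σ
      map_one' := hfun 1 1 (by rw [one_smul, one_smul])
      map_mul' := fun a b => hfun _ _ (by rw [mul_smul, hσ, hσ, mul_smul])
      map_zero' := hfun 0 0 (by rw [zero_smul, zero_smul, mulVec_zero])
      map_add' := fun a b => hfun _ _ (by rw [add_smul, mulVec_add, hσ, hσ, add_smul])
      commutes' := fun t => hfun _ _ (by rw [algebraMap_smul, algebraMap_smul, mulVec_smul]) }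
  let τ := AlgEquiv.ofBijective σh (Finite.injective_iff_bijective.1 σh.toRingHom.injective)
  refine ⟨τ, hσ, fun x y => c.h_eq_of_trace fun l => ?_⟩
  have hτ : ∀ k, mat Q g *ᵥ (k • x) = τ k • (mat Q g *ᵥ x) := fun k => hσ k x
  have h1 := polar_mulVec Q g (τ.symm l • x) y
  rw [hτ, AlgEquiv.apply_symm_apply, c.tr, c.tr, LinearMap.map_smul₂, LinearMap.map_smul₂, smul_eq_mul,
    smul_eq_mul] at h1
  rw [h1, ← Algebra.trace_eq_of_algEquiv τ (τ.symm l * c.h x y), map_mul, AlgEquiv.apply_symm_apply]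

theorem exists_primitive : ∃ θ : K, θ ∉ Set.range (algebraMap F K) := by
  by_contra! h
  have := (Algebra.linearMap F K).finrank_range_le
  rw [LinearMap.range_eq_top.2 (fun x => (by obtain ⟨y, hy⟩ := h x; exact ⟨y, hy⟩)), finrank_top, c.deg, Module.finrank_self] at this
  omega

theorem adjoin_eq_top {θ : K} (hθ : θ ∉ Set.range (algebraMap F K)) : Algebra.adjoin F {θ} = ⊤ := by
  have : IsSimpleOrder (Subalgebra F K) :=
    Subalgebra.isSimpleOrder_of_finrank_prime F K (by rw [c.deg]; exact Nat.prime_three)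
  refine (IsSimpleOrder.eq_bot_or_eq_top _).resolve_left fun hb => hθ ?_
  rw [← Algebra.mem_bot, ← hb]
  exact Algebra.self_mem_adjoin_singleton F θ

theorem aut_eq_one {σ : K ≃ₐ[F] K} {θ : K} (hθ : θ ∉ Set.range (algebraMap F K)) (e : σ θ = θ) : σ = 1 := by
  refine AlgEquiv.ext fun k => ?_
  have := AlgHom.ext_of_adjoin_eq_top (c.adjoin_eq_top hθ) (φ₁ := σ.toAlgHom) (φ₂ := AlgHom.id F K)
    (fun x hx => by rw [Set.mem_singleton_iff.1 hx]; exact e)
  exact congrArg (fun f : K →ₐ[F] K => f k) this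

/-- Involutions normalising the field commute with it. -/
theorem lin_of_invol {g : Isom Q} (hg : Norm K g) (h2 : g * g = 1) : Lin K g := by
  obtain ⟨σ, hσ, -⟩ := c.exists_semilinear hg
  obtain ⟨u, hu, -⟩ := c.exists_singular
  intro k x
  have h1 : σ (σ k) = k := by
    refine smul_left_injective K hu ?_
    have e : mat Q g *ᵥ (mat Q g *ᵥ (k • u)) = k • u := by
      rw [mulVec_mulVec, ← mat_mul, h2, mat_one, one_mulVec]
    rw [hσ, hσ, mulVec_mulVec, ← mat_mul, h2, mat_one, one_mulVec] at e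
    exact e
  have h3 := c.aut_cube σ k
  rw [h1] at h3
  rw [hσ, h3]

/-- Normalising and fixing more than `dim_K V` independent vectors implies commuting with the field. -/
theorem lin_of_fix {g : Isom Q} (hg : Norm K g) {n : ℕ} (hn : finrank K (ι → F) < n) (φ : Fin n → ι → F)
    (hli : LinearIndependent F φ) (hfix : ∀ i, mat Q g *ᵥ φ i = φ i) : Lin K g := by
  classical
  have := c.fdK
  obtain ⟨σ, hσ, -⟩ := c.exists_semilinear hg
  suffices σ = 1 by intro k x; rw [hσ, this]; rfl
  by_contra hne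
  suffices h : ∀ (s : Finset (Fin n)) (k : Fin n → K), (∀ i ∉ s, k i = 0) → ∑ i, k i • φ i = 0 → k = 0 by
    have hli' : LinearIndependent K φ := Fintype.linearIndependent_iff.2 fun k hk i =>
      congrFun (h Finset.univ k (fun i hi => absurd (Finset.mem_univ i) hi) hk) i
    have := hli'.fintype_card_le_finrank
    rw [Fintype.card_fin] at this
    omega
  intro s
  induction s using Finset.induction_on with
  | empty => exact fun k hk _ => funext fun i => hk i (Finset.notMem_empty i)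
  | insert j s hj ih =>
    intro k hk hsum
    by_cases hkj : k j = 0
    · refine ih k (fun i hi => ?_) hsum
      rcases eq_or_ne i j with rfl | hij
      · exact hkj
      · exact hk i fun h => (Finset.mem_insert.1 h).elim hij hi
    exfalso
    obtain ⟨m, hm⟩ : ∃ m : Fin n → K, m = fun i => k i / k j := ⟨_, rfl⟩
    have hm0 : ∑ i, m i • φ i = 0 := by
      have := congrArg ((k j)⁻¹ • ·) hsum
      simpa only [Finset.smul_sum, smul_zero, hm, div_eq_inv_mul, mul_smul] using this
    have hd := ih (fun i => σ (m i) - m i) (fun i hi => by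
      rcases eq_or_ne i j with rfl | hij
      · rw [hm]; simp [div_self hkj]
      · rw [hm]; simp [hk i fun h => (Finset.mem_insert.1 h).elim hij hi]) (by
      have h1 := congrArg (mat Q g *ᵥ ·) hm0
      simp only [Matrix.mulVec_sum, hσ, hfix, mulVec_zero] at h1
      simp only [sub_smul, Finset.sum_sub_distrib, h1, hm0, sub_zero])
    have hrange : ∀ i, m i ∈ Set.range (algebraMap F K) := fun i => by
      by_contra hnot
      exact hne (c.aut_eq_one hnot (sub_eq_zero.1 (congrFun hd i)))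
    choose f hf using hrange
    have hf0 := Fintype.linearIndependent_iff.1 hli f (by simpa only [← hf, algebraMap_smul] using hm0) j
    have h1 := hf j
    rw [hf0, map_zero, hm] at h1
    exact one_ne_zero (by simpa [div_self hkj] using h1.symm : (1 : K) = 0)

variable {M : Subgroup (Isom Q)}

/-- A member carrying a plane to a subspace stable under the field normalises it. -/
theorem norm_of_plane (hd : finrank K (ι → F) = 4) (hM : Below K M) (hMΩ : M ≤ Cfsg.Omega F ⇑Q)
    (hle : ¬ Cfsg.Omega F ⇑Q ≤ M) {a b : ι → F} (hp : c.IsPlane a b) {g : Isom Q} (hg : g ∈ M)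
    (hstab : ∀ (k : K), ∀ x ∈ plane K a b, ∃ y ∈ plane K a b, k • (mat Q g *ᵥ x) = mat Q g *ᵥ y) : Norm K g := by
  classical
  have := c.finite
  have := c.fdF
  have := c.fdK
  have haL : a ∈ plane K a b := mem_plane.2 ⟨1, 0, by simp⟩
  have hsing : ∀ x ∈ plane K a b, ∀ y ∈ plane K a b, c.h (mat Q g *ᵥ x) (mat Q g *ᵥ y) = 0 := by
    intro x hx y hy
    refine c.h_eq_zero_of_polar fun k => ?_
    obtain ⟨x', hx', e⟩ := hstab k x hx
    rw [e, polar_mulVec, c.tr, hp.h_comb hx' hy, map_zero]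
  have hga0 := mulVec_ne_zero g hp.left_ne
  -- conjugates of root elements commute with the field
  have hX : ∀ {e : K} {E : Isom Q}, E ∈ M → c.IsRoot a b e E → Lin K (g * E * g⁻¹) := by
    intro e E hEM hE
    have hfix : ∀ x ∈ plane K a b, mat Q (g * E * g⁻¹) *ᵥ (mat Q g *ᵥ x) = mat Q g *ᵥ x := fun x hx => by
      rw [mat_mul, mat_mul, ← mulVec_mulVec, ← mulVec_mulVec, inv_mulVec_cancel, hE.fix hp hx]
    have hfixk : ∀ k : K, mat Q (g * E * g⁻¹) *ᵥ (k • (mat Q g *ᵥ a)) = k • (mat Q g *ᵥ a) := fun k => by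
      obtain ⟨y, hy, ey⟩ := hstab k a haL
      rw [ey, hfix y hy]
    have hN := c.norm_of_line hM hMΩ hle (M.mul_mem (M.mul_mem hg hEM) (M.inv_mem hg)) (hsing a haL a haL) hga0
      (hsing a haL a haL) fun k => ⟨k, hfixk k⟩
    intro k x
    obtain ⟨k', hk'⟩ := hN k
    have h1 := hk' (mat Q g *ᵥ a)
    rw [hfixk, hfix a haL] at h1
    rw [hk', smul_left_injective K hga0 h1]
  choose E hEM _ _ hE using fun e : K => c.exists_root_elt hM hp e
  -- the transported field
  let ρ : K →ₐ[F] Module.End F (ι → F) :=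
    { toFun := fun k => Matrix.toLin' (mat Q g⁻¹) ∘ₗ (LinearMap.lsmul K (ι → F) k).restrictScalars F ∘ₗ
        Matrix.toLin' (mat Q g)
      map_one' := LinearMap.ext fun x => by simp [inv_mulVec_cancel, -Matrix.mulVec_mulVec]
      map_mul' := fun k l => LinearMap.ext fun x => by simp [mulVec_inv_cancel, mul_smul, -Matrix.mulVec_mulVec, smul_comm k l]
      map_zero' := LinearMap.ext fun x => by simp
      map_add' := fun k l => LinearMap.ext fun x => by simp [add_smul, mulVec_add]
      commutes' := fun t => LinearMap.ext fun x => by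
        simp [algebraMap_smul, mulVec_smul, inv_mulVec_cancel, -Matrix.mulVec_mulVec] }
  have hρ : ∀ k x, ρ k x = mat Q g⁻¹ *ᵥ (k • (mat Q g *ᵥ x)) := fun k x => by simp [ρ]
  have hρL : ∀ k, ∀ x ∈ plane K a b, ρ k x ∈ plane K a b := fun k x hx => by
    obtain ⟨y, hy, e⟩ := hstab k x hx
    rwa [hρ, e, inv_mulVec_cancel]
  have hcomm : ∀ e k x, ρ k (mat Q (E e) *ᵥ x) = mat Q (E e) *ᵥ ρ k x := fun e k x => by
    have h1 := hX (hEM e) (hE e) k (mat Q g *ᵥ x)
    rw [mat_mul, mat_mul, ← mulVec_mulVec, ← mulVec_mulVec, ← mulVec_mulVec, ← mulVec_mulVec,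
      inv_mulVec_cancel] at h1
    rw [hρ, hρ, ← h1, inv_mulVec_cancel]
  have hsemi : ∀ (k e : K) (x : ι → F), x ∈ plane K a b → ρ k (e • x) = e • ρ k x := by
    intro k e x hx
    obtain ⟨l, m, rfl⟩ := mem_plane.1 hx
    obtain ⟨⟨da, ha1, ha0⟩, ⟨db, hb0, hb1⟩⟩ := hp.exists_dual
    set z := m • da - l • db with hz
    have hN : ∀ e, mat Q (E e) *ᵥ z = z + e • (l • a + m • b) := fun e => by
      rw [hE e, hz]
      simp [ha1, ha0, hb0, hb1, smul_smul, smul_add, mul_comm e, add_comm]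
    have h1 := hcomm e k z
    have h2 := hcomm 1 k z
    rw [hN, map_add] at h1 h2
    rw [one_smul] at h2
    rw [hE] at h1 h2
    rw [add_right_inj] at h1 h2
    rw [h1, h2]
    simp [smul_sub, smul_smul, mul_comm e]
  obtain ⟨θ, hθ⟩ := c.exists_primitive
  let W := Submodule.span K ({a, b} : Set (ι → F))
  let f : Module.End K W :=
    { toFun := fun x => ⟨ρ θ x.1, hρL θ x.1 x.2⟩
      map_add' := fun x y => Subtype.ext (map_add (ρ θ) _ _)
      map_smul' := fun e x => Subtype.ext (hsemi θ e x.1 x.2) }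
  have : Nontrivial W := ⟨⟨⟨a, haL⟩, 0, fun e => hp.left_ne (congrArg Subtype.val e)⟩⟩
  have hfr : ∀ (r : F[X]) (x : W), ((aeval f (r.map (algebraMap F K)) x : W) : ι → F) = ρ (aeval θ r) x := by
    intro r
    induction r using Polynomial.induction_on' with
    | add r r' h h' =>
      intro x
      rw [Polynomial.map_add, map_add, map_add, map_add, LinearMap.add_apply, LinearMap.add_apply,
        Submodule.coe_add, h, h']
    | monomial n t =>
      intro x
      rw [Polynomial.map_monomial, aeval_monomial, aeval_monomial, map_mul, Module.End.mul_apply,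
        Module.End.mul_apply, AlgHom.commutes, Module.algebraMap_end_apply, Module.algebraMap_end_apply,
        Submodule.coe_smul, algebraMap_smul, map_pow]
      congr 1
      clear t
      induction n generalizing x with
      | zero => simp
      | succ n ih => rw [pow_succ', pow_succ', Module.End.mul_apply, Module.End.mul_apply, ← ih]; rfl
  have hint : IsIntegral F θ := IsIntegral.of_finite F θ
  have hf0 : aeval f ((minpoly F θ).map (algebraMap F K)) = 0 := LinearMap.ext fun x => Subtype.ext (by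
    rw [hfr, minpoly.aeval, map_zero]; rfl)
  have hdvd := minpoly.dvd K f hf0
  have hsp : (minpoly K f).Splits := (Normal.splits (inferInstanceAs (Normal F K)) θ).of_dvd
    ((Polynomial.monic_map_iff.2 (minpoly.monic hint)).ne_zero) hdvd
  obtain ⟨lam, hlam⟩ := hsp.exists_eval_eq_zero (minpoly.degree_pos
    (Algebra.IsIntegral.isIntegral f)).ne'
  obtain ⟨⟨v, hvL⟩, hv⟩ := (Module.End.hasEigenvalue_of_isRoot hlam).exists_hasEigenvector
  have hv0 : v ≠ 0 := fun e => hv.2 (Subtype.ext e)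
  have hθv : ρ θ v = lam • v := congrArg Subtype.val hv.apply_eq_smul
  have hall : ∀ k : K, ∃ l : K, ρ k v = l • v := by
    intro k
    have hk : k ∈ Algebra.adjoin F {θ} := by rw [c.adjoin_eq_top hθ]; trivial
    induction hk using Algebra.adjoin_induction with
    | mem x hx => rw [Set.mem_singleton_iff.1 hx]; exact ⟨lam, hθv⟩
    | algebraMap t =>
      exact ⟨algebraMap F K t, by rw [AlgHom.commutes, Module.algebraMap_end_apply, algebraMap_smul]⟩
    | add x y _ _ hx hy =>
      obtain ⟨l, hl⟩ := hx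
      obtain ⟨l', hl'⟩ := hy
      exact ⟨l + l', by rw [map_add, LinearMap.add_apply, hl, hl', add_smul]⟩
    | mul x y _ _ hx hy =>
      obtain ⟨l, hl⟩ := hx
      obtain ⟨l', hl'⟩ := hy
      exact ⟨l' * l, by rw [map_mul, Module.End.mul_apply, hl', hsemi x l' v hvL, hl, smul_smul]⟩
  choose τ hτ using hall
  have hτinj : Function.Injective τ := fun k l e => smul_left_injective K (mulVec_ne_zero g hv0) (by
    have h1 : ρ k v = ρ l v := by rw [hτ, hτ, e]
    rw [hρ, hρ, mulVec_eq_iff] at h1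
    exact h1)
  refine c.norm_of_line hM hMΩ hle hg (u₁ := v) (u₂ := mat Q g *ᵥ v) (hp.h_comb hvL hvL) hv0 (hsing v hvL v hvL)
    fun l => ?_
  obtain ⟨k, rfl⟩ := Finite.injective_iff_surjective.1 hτinj l
  exact ⟨k, by rw [← hτ, hρ, mulVec_inv_cancel]⟩

/-- Members commuting with a root element of a plane normalise the field and keep the plane. -/
theorem of_commute_root (hd : finrank K (ι → F) = 4) (hM : Below K M) (hMΩ : M ≤ Cfsg.Omega F ⇑Q)
    (hle : ¬ Cfsg.Omega F ⇑Q ≤ M) {a b : ι → F} (hp : c.IsPlane a b) {e : K} (he : e ≠ 0) {E g : Isom Q}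
    (hE : c.IsRoot a b e E) (hg : g ∈ M) (hc : g * E = E * g) :
    Norm K g ∧ ∀ x ∈ plane K a b, mat Q g *ᵥ x ∈ plane K a b := by
  have hto : ∀ {g : Isom Q}, g * E = E * g → ∀ x ∈ plane K a b, mat Q g *ᵥ x ∈ plane K a b := fun {g} hc x hx =>
    hE.mem_of_fix hp hd he (by rw [mulVec_mulVec, ← mat_mul, ← hc, mat_mul, ← mulVec_mulVec, hE.fix hp hx])
  refine ⟨c.norm_of_plane hd hM hMΩ hle hp hg fun k x hx => ?_, hto hc⟩
  refine ⟨mat Q g⁻¹ *ᵥ (k • (mat Q g *ᵥ x)), hto (Commute.inv_left hc).eq _ ?_, by rw [mulVec_inv_cancel]⟩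
  exact (Submodule.span K ({a, b} : Set (ι → F))).smul_mem k (hto hc x hx)

/-- An involution normalising the field, commuting with a root element and fixing the first vector is trivial. -/
theorem eq_one_of_invol (hd : finrank K (ι → F) = 4) {a b : ι → F} (hp : c.IsPlane a b) {e : K} (he : e ≠ 0)
    {E t : Isom Q} (hE : c.IsRoot a b e E) (ht : Norm K t) (htt : t * t = 1) (hc : t * E = E * t)
    (hta : mat Q t *ᵥ a = a) : t = 1 := by
  have hl := c.lin_of_invol ht htt
  have hsq : ∀ x, mat Q t *ᵥ (mat Q t *ᵥ x) = x := fun x => by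
    rw [mulVec_mulVec, ← mat_mul, htt, mat_one, one_mulVec]
  obtain ⟨⟨x, hax, hbx⟩, -⟩ := hp.exists_dual
  have hb : mat Q t *ᵥ b = b := by
    have h1 : mat Q E *ᵥ (mat Q t *ᵥ x) = mat Q t *ᵥ (mat Q E *ᵥ x) := by
      rw [mulVec_mulVec, mulVec_mulVec, ← mat_mul, ← mat_mul, hc]
    have h2 : c.h a (mat Q t *ᵥ x) = 1 := by
      have := c.h_map hl a x
      rwa [hta, hax] at this
    rw [hE, hE, hax, hbx, h2, one_mul, mul_zero, zero_smul, sub_zero, mulVec_add, add_right_inj, hl] at h1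
    obtain ⟨m, hm⟩ : ∃ m : K, mat Q t *ᵥ b = b - m • a := ⟨c.h b (mat Q t *ᵥ x), by
      refine smul_right_injective (ι → F) he ?_
      simp only
      rw [← h1, smul_sub, smul_smul]⟩
    have h3 := hsq b
    rw [hm, mulVec_sub, hl, hta, hm, sub_sub, ← add_smul, sub_eq_self, smul_eq_zero, ← two_mul] at h3
    rw [hm, (mul_eq_zero.1 (h3.resolve_right hp.left_ne)).resolve_left c.two', zero_smul, sub_zero]
  have hfix : ∀ y ∈ plane K a b, mat Q t *ᵥ y = y := fun y hy => by
    obtain ⟨k, l, rfl⟩ := mem_plane.1 hy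
    rw [mulVec_add, hl, hl, hta, hb]
  refine isom_ext fun y => ?_
  rw [mat_one, one_mulVec]
  have hmem : mat Q t *ᵥ y - y ∈ plane K a b := (hp.mem_iff hd).2 ⟨by
    rw [map_sub, sub_eq_zero]; conv_lhs => rw [← hta, c.h_map hl], by
    rw [map_sub, sub_eq_zero]; conv_lhs => rw [← hb, c.h_map hl]⟩
  have h4 := hfix _ hmem
  rw [mulVec_sub, hsq] at h4
  refine sub_eq_zero.1 ((smul_eq_zero.1 (?_ : (2 : F) • (mat Q t *ᵥ y - y) = 0)).resolve_left c.two)
  rw [two_smul]
  nth_rewrite 1 [← h4]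
  abel

/-- Members fixing two independent vectors of a plane and commuting with the adapted root element are linear. -/
theorem lin_of_root {a b : ι → F} (hp : c.IsPlane a b) {θ : K} (hθ : θ ∉ Set.range (algebraMap F K))
    {E z : Isom Q} (hE : c.IsRoot a b θ E) (hz : Norm K z) (hc : z * E = E * z)
    (hza : mat Q z *ᵥ a = a) (hzb : mat Q z *ᵥ b = b) : Lin K z := by
  obtain ⟨σ, hσ, hh⟩ := c.exists_semilinear hz
  obtain ⟨⟨x, hax, hbx⟩, -⟩ := hp.exists_dual
  have h1 : mat Q E *ᵥ (mat Q z *ᵥ x) = mat Q z *ᵥ (mat Q E *ᵥ x) := by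
    rw [mulVec_mulVec, mulVec_mulVec, ← mat_mul, ← mat_mul, hc]
  have ha' : c.h a (mat Q z *ᵥ x) = 1 := by
    have := hh a x
    rwa [hza, hax, map_one] at this
  have hb' : c.h b (mat Q z *ᵥ x) = 0 := by
    have := hh b x
    rwa [hzb, hbx, map_zero] at this
  rw [hE, hE, hax, hbx, ha', hb', one_mul, mul_zero, zero_smul, sub_zero, mulVec_add, add_right_inj, hσ,
    hzb] at h1
  have hb0 : b ≠ 0 := fun e => one_ne_zero (hp.2.2.2 0 1 (by rw [e, smul_zero, zero_smul, add_zero])).2
  intro k y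
  rw [hσ, c.aut_eq_one hθ (smul_left_injective K hb0 h1).symm]
  rfl

/-! ### Radicals of unipotent members commuting with the field -/

/-- Non-trivial unipotent members have a non-zero radical vector. -/
theorem exists_inRad {p : ℕ} [Fact p.Prime] [CharP F p] {g : Isom Q} (hg : g ^ p = 1) (hg1 : g ≠ 1) :
    ∃ a, a ≠ 0 ∧ InRad g a := by
  classical
  set n : Module.End F (ι → F) := Matrix.toLinAlgEquiv' (mat Q g) - 1 with hn
  have hne : Nontrivial (ι → F) := c.nontrivial'
  have : CharP (Module.End F (ι → F)) p := charP_of_injective_algebraMap' F p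
  have hpow : ∀ i : ℕ, mat Q (g ^ i) = mat Q g ^ i := fun i => by
    induction i with
    | zero => rw [pow_zero, pow_zero, mat_one]
    | succ i ih => rw [pow_succ, pow_succ, mat_mul, ih]
  have hnp : n ^ p = 0 := by
    rw [hn, sub_pow_char_of_commute _ (Commute.one_right _), one_pow, ← map_pow, ← hpow, hg, mat_one, map_one,
      sub_self]
  have hn1 : n ≠ 0 := fun e => hg1 (mat_ext Q (by
    rw [mat_one]; exact Matrix.toLinAlgEquiv'.injective (by rw [map_one]; exact sub_eq_zero.1 e)))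
  have hex : ∃ i, n ^ i = 0 := ⟨p, hnp⟩
  set i := Nat.find hex
  have hi : n ^ i = 0 := Nat.find_spec hex
  have hi2 : 2 ≤ i := by
    by_contra hlt
    rcases (show i = 0 ∨ i = 1 by omega) with h | h <;> rw [h] at hi
    · rw [pow_zero] at hi
      exact one_ne_zero hi
    · rw [pow_one] at hi
      exact hn1 hi
  obtain ⟨z, hz⟩ : ∃ z, (n ^ (i - 1)) z ≠ 0 := by
    by_contra! h
    exact Nat.find_min hex (show i - 1 < i by omega) (LinearMap.ext h)
  have happ : ∀ w, n w = mat Q g *ᵥ w - w := fun w => by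
    rw [hn, LinearMap.sub_apply, Matrix.toLinAlgEquiv'_apply, Module.End.one_apply]
  refine ⟨_, hz, sub_eq_zero.1 ?_, (n ^ (i - 2)) z, ?_⟩
  · rw [← happ, ← Module.End.mul_apply, ← pow_succ', show i - 1 + 1 = i by omega, hi, LinearMap.zero_apply]
  · rw [← happ, ← Module.End.mul_apply, ← pow_succ', show i - 2 + 1 = i - 1 by omega]

/-- Radical vectors are orthogonal. -/
theorem inRad_line {g : Isom Q} (hg : Lin K g) {a b : ι → F} (ha : InRad g a) (hb : InRad g b) :
    c.h a b = 0 := by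
  obtain ⟨z, hz⟩ := ha.2
  rw [hz, map_sub, LinearMap.sub_apply]
  conv_lhs => arg 1; arg 2; rw [← hb.1]
  rw [c.h_map hg, sub_self]

omit c in
theorem inRad_map {x y g : Isom Q} (e : g * y = x * g) {a : ι → F} (ha : InRad y a) :
    InRad x (mat Q g *ᵥ a) := by
  obtain ⟨h1, z, hz⟩ := ha
  refine ⟨?_, mat Q g *ᵥ z, ?_⟩
  · rw [mulVec_mulVec, ← mat_mul, ← e, mat_mul, ← mulVec_mulVec, h1]
  · rw [hz, mulVec_sub, mulVec_mulVec _ (mat Q x), ← mat_mul, ← e, mat_mul, ← mulVec_mulVec]

omit c in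
theorem inRad_smul {g : Isom Q} (hg : Lin K g) {a : ι → F} (ha : InRad g a) (k : K) : InRad g (k • a) := by
  obtain ⟨h1, z, hz⟩ := ha
  exact ⟨by rw [hg, h1], k • z, by rw [hg, hz, smul_sub]⟩

omit c in
theorem inRad_add {g : Isom Q} {a b : ι → F} (ha : InRad g a) (hb : InRad g b) : InRad g (a + b) := by
  obtain ⟨h1, z, hz⟩ := ha
  obtain ⟨h2, w, hw⟩ := hb
  exact ⟨by rw [mulVec_add, h1, h2], z + w, by rw [mulVec_add, hz, hw, add_sub_add_comm]⟩

/-- An element conjugating one unipotent member commuting with the field to another normalises it. -/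
theorem norm_of_unipotent (hd : finrank K (ι → F) = 4) (hM : Below K M) (hMΩ : M ≤ Cfsg.Omega F ⇑Q)
    (hle : ¬ Cfsg.Omega F ⇑Q ≤ M) {p : ℕ} [Fact p.Prime] [CharP F p] {x y g : Isom Q} (hg : g ∈ M)
    (e : g * y = x * g) (hx : Lin K x) (hy : Lin K y) (hyp : y ^ p = 1) (hy1 : y ≠ 1) : Norm K g := by
  have := c.finite
  have := c.nontrivial'
  obtain ⟨a, ha0, ha⟩ := c.exists_inRad hyp hy1
  set b := mat Q g *ᵥ a with hbdef
  have hb : InRad x b := inRad_map e ha
  by_cases hline : ∀ k : K, ∃ l : K, mat Q g *ᵥ (k • a) = l • b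
  · exact c.norm_of_line hM hMΩ hle hg (c.inRad_line hy ha ha) ha0 (c.inRad_line hx hb hb) hline
  push Not at hline
  obtain ⟨k, hk⟩ := hline
  set b₂ := mat Q g *ᵥ (k • a) with hb₂def
  have hb₂ : InRad x b₂ := inRad_map e (inRad_smul hy ha k)
  have hp : c.IsPlane b b₂ := by
    refine ⟨c.inRad_line hx hb hb, c.inRad_line hx hb₂ hb₂, c.inRad_line hx hb hb₂, fun s t hst => ?_⟩
    have ht : t = 0 := by
      by_contra ht
      refine hk (-(t⁻¹ * s)) ?_
      rw [neg_smul, mul_smul, eq_neg_iff_add_eq_zero]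
      have := congrArg (t⁻¹ • ·) hst
      simp only [smul_add, smul_zero, smul_smul, inv_mul_cancel₀ ht, one_smul] at this
      rw [smul_smul, add_comm]
      exact this
    rw [ht, zero_smul, add_zero, smul_eq_zero] at hst
    exact ⟨hst.resolve_right (mulVec_ne_zero g ha0), ht⟩
  have hR : ∀ w, InRad x w → w ∈ plane K b b₂ := fun w hw =>
    (hp.mem_iff hd).2 ⟨c.inRad_line hx hb hw, c.inRad_line hx hb₂ hw⟩
  have hR' : ∀ w ∈ plane K b b₂, InRad x w := fun w hw => by
    obtain ⟨s, t, rfl⟩ := mem_plane.1 hw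
    exact inRad_add (inRad_smul hx hb s) (inRad_smul hx hb₂ t)
  have e' : g⁻¹ * x = y * g⁻¹ := by
    rw [eq_mul_inv_iff_mul_eq, mul_assoc, ← e, inv_mul_cancel_left]
  have := c.norm_of_plane hd hM hMΩ hle hp (M.inv_mem hg) fun l w hw => by
    refine ⟨mat Q g *ᵥ (l • (mat Q g⁻¹ *ᵥ w)), hR _ (inRad_map e (inRad_smul hy (inRad_map e' (hR' w hw)) l)), ?_⟩
    rw [inv_mulVec_cancel]
  simpa using this.inv

/-- Eichler elements with orthogonal parameter are semiregular on cosets of the normaliser. -/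
theorem norm_of_conj_eK (hd : finrank K (ι → F) = 4) (hM : Below K M) (hMΩ : M ≤ Cfsg.Omega F ⇑Q)
    (hle : ¬ Cfsg.Omega F ⇑Q ≤ M) {a a' w : ι → F} (hp : c.Pair a a') (hw : c.Rest a a' w) (hw0 : w ≠ 0)
    {y g : Isom Q} (hyl : Lin K y) (hy : ∀ x, mat Q y *ᵥ x = c.eK a w x) (hg : g ∈ M)
    (hn : Norm K (g⁻¹ * y * g)) : Norm K g := by
  have := c.fdK
  have := c.finite
  obtain ⟨p, hp'⟩ := CharP.exists F
  have : Fact p.Prime := ⟨CharP.char_is_prime F p⟩
  have hpow : ∀ (i : ℕ) x, mat Q (y ^ i) *ᵥ x = c.eK a ((i : K) • w) x := by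
    intro i
    induction i with
    | zero => intro x; rw [pow_zero, mat_one, one_mulVec, Nat.cast_zero, zero_smul, eK_apply]; simp [q]
    | succ i ih =>
      intro x
      rw [pow_succ', mat_mul, ← mulVec_mulVec, ih, hy, c.eK_mul hp.1 hw.1 (by rw [map_smul, hw.1, smul_zero]),
        Nat.cast_succ, add_smul, one_smul, add_comm]
  have hyp : y ^ p = 1 := isom_ext fun x => by
    rw [hpow, mat_one, one_mulVec, ← map_natCast (algebraMap F K), CharP.cast_eq_zero, map_zero, zero_smul,
      eK_apply]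
    simp [q]
  have hy1 : y ≠ 1 := fun e => by
    have := hy a'
    rw [e, mat_one, one_mulVec] at this
    have h2 := c.eK_partner hp hw 1
    rw [one_smul, ← this] at h2
    have h3 : (1 : K) • w = (c.q w * 1) • a := by
      rw [eq_sub_iff_add_eq, add_right_inj] at h2
      exact h2.symm
    have h4 := congrArg (c.h a') h3
    rw [map_smul, map_smul, hw.2, hp.vu, smul_zero, smul_eq_mul, mul_one, mul_one] at h4
    rw [← h4, zero_mul, zero_smul, one_smul] at h3
    exact hw0 h3
  -- the fixed space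
  obtain ⟨t, ht, hwt, ht0⟩ : ∃ t, c.Rest a a' t ∧ c.h w t = 0 ∧ t ≠ 0 := by
    let Φ : (ι → F) →ₗ[K] (Fin 3 → K) := LinearMap.pi ![c.h a, c.h a', c.h w]
    have h1 := LinearMap.finrank_range_add_finrank_ker Φ
    have h2 : finrank K (LinearMap.range Φ) ≤ 3 := (Submodule.finrank_le _).trans (finrank_fin_fun K).le
    obtain ⟨t, ht, ht0⟩ := Submodule.exists_mem_ne_zero_of_ne_bot (p := LinearMap.ker Φ) fun e => by
      rw [e, finrank_bot, hd] at h1; omega
    rw [LinearMap.mem_ker] at ht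
    exact ⟨t, ⟨congrFun ht 0, congrFun ht 1⟩, congrFun ht 2, ht0⟩
  set U := plane K a t with hU
  have hfixy : ∀ x ∈ U, mat Q y *ᵥ x = x := fun x hx => by
    obtain ⟨k, l, rfl⟩ := mem_plane.1 hx
    rw [mulVec_add, hyl, hyl, hy, hy, c.eK_self hp.1 hw.1, eK_apply, ht.1, hwt]
    simp
  have hU6 : finrank F U = 6 := by
    have hli : LinearIndependent K ![a, t] := LinearIndependent.pair_iff.2 fun k l e => by
      have := congrArg (c.h a') e
      rw [map_add, map_smul, map_smul, hp.vu, ht.2, smul_zero, add_zero, map_zero, smul_eq_mul, mul_one] at this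
      rw [this, zero_smul, zero_add, smul_eq_zero] at e
      exact ⟨this, e.resolve_right ht0⟩
    have h1 := finrank_span_eq_card hli
    rw [Matrix.range_cons, Matrix.range_cons, Matrix.range_empty, Set.union_empty, Set.singleton_union,
      Fintype.card_fin] at h1
    have := Module.finrank_mul_finrank F K (Submodule.span K ({a, t} : Set (ι → F)))
    rw [c.deg, h1] at this
    exact this.symm
  let B := Module.finBasisOfFinrankEq F U hU6
  have hl := c.lin_of_fix hn (n := 6) (by omega) (fun i => mat Q g⁻¹ *ᵥ (B i : ι → F))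
    ((B.linearIndependent.map' _ U.ker_subtype).map' (Matrix.toLin' (mat Q g⁻¹))
      (LinearMap.ker_eq_bot.2 fun u v e => (mulVec_eq_iff g⁻¹).1 e)) fun i => by
      rw [mat_mul, mat_mul, ← mulVec_mulVec, ← mulVec_mulVec, mulVec_inv_cancel, hfixy _ (B i).2]
  refine c.norm_of_unipotent hd hM hMΩ hle (p := p) (x := y) (y := g⁻¹ * y * g) hg (by group) hyl hl ?_ ?_
  · have := conj_pow (a := g⁻¹) (b := y) (i := p)
    rw [inv_inv] at this
    rw [this, hyp]
    group
  · intro e1
    apply hy1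
    have := congrArg (fun z => g * z * g⁻¹) e1
    simpa [mul_assoc] using this

end Ext

end CfsgLib.OrthExtR
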