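import Cfsg.Agent.DicksonPSL2.Transvections


/-!
# Two quadratic unipotents of odd characteristic have a small central companion

If `x = 1 + A` and `y = 1 + B` with `A² = B² = 0` in a finite linear group, then `⟨x, y⟩` contains a
non-trivial element commuting with both, of order two or `p`: every involution of it does, as `s + s⁻¹` is a
polynomial in `θ = AB + BA`; otherwise `θ` is nilpotent and the group is a `p`-group, or Dickson's lemma on
an irreducible constituent gives an even order.
-/

set_option autoImplicit false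
set_option linter.unusedSectionVars false

namespace CfsgLib.OrthExtR

open Polynomial Module
open scoped MatrixGroups

section Involutions

variable {G : Type*} [Group G] [Finite G]

/-- A group with an element lying over an involution has an involution there. -/
theorem exists_invol_of_even {g : G} (h : Even (orderOf g)) :
    ∃ t ∈ Subgroup.zpowers g, t ≠ 1 ∧ t * t = 1 := by
  obtain ⟨k, hk⟩ := h
  have hk0 : 0 < k := by have := orderOf_pos g; omega
  refine ⟨g ^ k, Subgroup.pow_mem _ (Subgroup.mem_zpowers g) k, fun e => ?_, ?_⟩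
  · have := Nat.le_of_dvd hk0 (orderOf_dvd_of_pow_eq_one e)
    omega
  · rw [← pow_add, ← hk, pow_orderOf_eq_one]

end Involutions

variable {F : Type*} [Field F] [Fintype F] {V : Type*} [AddCommGroup V] [Module F V] [FiniteDimensional F V]
variable {G : Type*} [Group G] [Finite G]

/-- An involution of a group whose elements `s` have `s + s⁻¹` central commutes with everything in sight. -/
theorem commute_of_invol (h2 : (2 : F) ≠ 0) (ρ : G →* Module.End F V) (hρ : Function.Injective ρ) {s x : G}
    {T : Module.End F V} (hs : s * s = 1) (hT : ρ s + ρ s⁻¹ = T) (hc : Commute T (ρ x)) : Commute s x := by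
  rw [inv_eq_of_mul_eq_one_right hs, ← two_smul F (ρ s)] at hT
  refine hρ ?_
  have : Commute (ρ s) (ρ x) := by
    rw [show ρ s = (2 : F)⁻¹ • T by rw [← hT, inv_smul_smul₀ h2]]
    exact hc.smul_left _
  rw [map_mul, map_mul]
  exact this

variable {A B : Module.End F V}

/-- The shape of the elements of the group generated by `1 + A` and `1 + B`. -/
def Rep (θ A B a b : Module.End F V) : Prop :=
  ∃ r₀ r₁ r₂ r₃ : F[X], r₀.eval 0 = 1 ∧
    a = aeval θ r₀ + aeval θ r₁ * A + aeval θ r₂ * B + aeval θ r₃ * (A * B) ∧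
    b = aeval θ r₀ - aeval θ r₁ * A - aeval θ r₂ * B + aeval θ r₃ * (B * A)

theorem rep_one (θ : Module.End F V) : Rep θ A B 1 1 :=
  ⟨1, 0, 0, 0, by simp, by simp, by simp⟩

theorem commute_aeval {θ C : Module.End F V} (h : Commute θ C) (r : F[X]) : Commute (aeval θ r) C :=
  (Algebra.commute_of_mem_adjoin_singleton_of_commute (aeval_mem_adjoin_singleton F θ) h.symm).symm

theorem aeval_smul_mul (θ : Module.End F V) (t : F) (r : F[X]) : aeval θ (C t * r) = t • aeval θ r := by
  rw [map_mul, aeval_C, Algebra.smul_def]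

theorem rep_stepA {θ a b : Module.End F V} (hθ : θ = A * B + B * A) (hθA : Commute θ A) (hA : A * A = 0) (t : F)
    (h : Rep θ A B a b) : Rep θ A B (a * (1 + t • A)) ((1 - t • A) * b) := by
  obtain ⟨r₀, r₁, r₂, r₃, h0, rfl, rfl⟩ := h
  have hc : ∀ (r : F[X]) (Z : Module.End F V), A * (aeval θ r * Z) = aeval θ r * (A * Z) := fun r Z => by
    rw [← mul_assoc, ← (commute_aeval hθA r).eq, mul_assoc]
  have hc' : ∀ r : F[X], A * aeval θ r = aeval θ r * A := fun r => ((commute_aeval hθA r).eq).symm
  have hAA : ∀ Z : Module.End F V, A * (A * Z) = 0 := fun Z => by rw [← mul_assoc, hA, zero_mul]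
  refine ⟨r₀ + C t * (r₂ * X), C t * r₀ + r₁ + C t * (r₃ * X), r₂, r₃ - C t * r₂, ?_, ?_, ?_⟩
  · simp [h0]
  · have hBA : B * A = θ - A * B := by rw [hθ]; abel
    have hθA' : A * θ = θ * A := hθA.symm.eq
    simp only [map_add, map_sub, aeval_smul_mul]
    simp only [map_mul, aeval_X, mul_add, add_mul, sub_mul, mul_one, smul_mul_assoc, mul_smul_comm, mul_assoc,
      hA, hBA, hAA, hθA', mul_sub, smul_sub, sub_zero, mul_zero, smul_zero, add_zero]
    module
  · have hAB : A * B = θ - B * A := by rw [hθ]; abel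
    have hABA : A * (B * A) = θ * A := by
      rw [hθ, add_mul, mul_assoc B A A, hA, mul_zero, add_zero, mul_assoc]
    simp only [map_add, map_sub, aeval_smul_mul]
    simp only [map_mul, aeval_X, mul_add, add_mul, sub_mul, one_mul, mul_sub, smul_mul_assoc, mul_smul_comm,
      mul_assoc, hc, hc', hA, hAB, hABA, smul_add, smul_sub, mul_zero, smul_zero, sub_zero, zero_add, add_zero]
    module

theorem rep_stepB {θ a b : Module.End F V} (hθB : Commute θ B) (hB : B * B = 0) (t : F)
    (h : Rep θ A B a b) : Rep θ A B (a * (1 + t • B)) ((1 - t • B) * b) := by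
  obtain ⟨r₀, r₁, r₂, r₃, h0, rfl, rfl⟩ := h
  have hc : ∀ (r : F[X]) (Z : Module.End F V), B * (aeval θ r * Z) = aeval θ r * (B * Z) := fun r Z => by
    rw [← mul_assoc, ← (commute_aeval hθB r).eq, mul_assoc]
  have hc' : ∀ r : F[X], B * aeval θ r = aeval θ r * B := fun r => ((commute_aeval hθB r).eq).symm
  have hBB : ∀ Z : Module.End F V, B * (B * Z) = 0 := fun Z => by rw [← mul_assoc, hB, zero_mul]
  refine ⟨r₀, r₁, r₂ + C t * r₀, r₃ + C t * r₁, h0, ?_, ?_⟩
  · simp only [map_add, aeval_smul_mul]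
    simp only [mul_add, add_mul, mul_one, smul_mul_assoc, mul_smul_comm, mul_assoc, hB, mul_zero, smul_zero,
      add_zero, smul_add]
    module
  · simp only [map_add, aeval_smul_mul]
    simp only [mul_add, add_mul, sub_mul, one_mul, mul_sub, smul_mul_assoc, mul_smul_comm, mul_assoc, hc, hc', hB,
      hBB, mul_zero, smul_zero, sub_zero, add_zero, smul_add, smul_sub]
    module

/-- **Central companions of a quadratic pair.** -/
theorem exists_central_of_pair (h2 : (2 : F) ≠ 0) {p : ℕ} [Fact p.Prime] [CharP F p]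
    (ρ : G →* Module.End F V) (hρ : Function.Injective ρ) {x y : G} (hx : ρ x = 1 + A) (hy : ρ y = 1 + B)
    (hA : A * A = 0) (hB : B * B = 0) (hx1 : x ≠ 1) :
    ∃ z ∈ Subgroup.closure {x, y}, z ≠ 1 ∧ Commute z x ∧ Commute z y ∧ (z * z = 1 ∨ z ^ p = 1) := by
  classical
  set H := Subgroup.closure ({x, y} : Set G) with hH
  obtain ⟨θ, hθ⟩ : ∃ θ, θ = A * B + B * A := ⟨_, rfl⟩
  have hxi : ρ x⁻¹ = 1 - A := by
    calc ρ x⁻¹ = ρ x⁻¹ * ((1 + A) * (1 - A)) := by
          rw [show (1 + A) * (1 - A) = 1 - A * A by noncomm_ring, hA, sub_zero, mul_one]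
      _ = 1 - A := by rw [← hx, ← mul_assoc, ← map_mul, inv_mul_cancel, map_one, one_mul]
  have hyi : ρ y⁻¹ = 1 - B := by
    calc ρ y⁻¹ = ρ y⁻¹ * ((1 + B) * (1 - B)) := by
          rw [show (1 + B) * (1 - B) = 1 - B * B by noncomm_ring, hB, sub_zero, mul_one]
      _ = 1 - B := by rw [← hy, ← mul_assoc, ← map_mul, inv_mul_cancel, map_one, one_mul]
  have hθA : Commute θ A := by
    rw [commute_iff_eq, hθ, add_mul, mul_add, mul_assoc B A A, ← mul_assoc A A B, hA, zero_mul, mul_zero,
      add_zero, zero_add, mul_assoc]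
  have hθB : Commute θ B := by
    rw [commute_iff_eq, hθ, add_mul, mul_add, mul_assoc A B B, ← mul_assoc B B A, hB, zero_mul, mul_zero,
      add_zero, zero_add, mul_assoc]
  have hrep : ∀ s ∈ H, Rep θ A B (ρ s) (ρ s⁻¹) := by
    intro s hs
    induction hs using Subgroup.closure_induction_right with
    | one => rw [inv_one, map_one]; exact rep_one θ
    | mul_right s _ g hg ih =>
      rw [mul_inv_rev, map_mul, map_mul]
      rcases hg with rfl | rfl
      · rw [hx, hxi]; simpa only [one_smul] using rep_stepA hθ hθA hA 1 ih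
      · rw [hy, hyi]; simpa only [one_smul] using rep_stepB hθB hB 1 ih
    | mul_inv_cancel s _ g hg ih =>
      rw [mul_inv_rev, inv_inv, map_mul, map_mul]
      rcases hg with rfl | rfl
      · rw [hx, hxi]; simpa only [neg_smul, one_smul, ← sub_eq_add_neg, sub_neg_eq_add] using
          rep_stepA hθ hθA hA (-1) ih
      · rw [hy, hyi]; simpa only [neg_smul, one_smul, ← sub_eq_add_neg, sub_neg_eq_add] using
          rep_stepB hθB hB (-1) ih
  have hcomm : ∀ (r : F[X]) {C : Module.End F V}, Commute θ C → Commute (aeval θ r) C := fun r C hC =>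
    commute_aeval hC r
  have hPA : ∀ r : F[X], Commute (aeval θ r) A := fun r => hcomm r hθA
  have hPB : ∀ r : F[X], Commute (aeval θ r) B := fun r => hcomm r hθB
  have hsum : ∀ s ∈ H, ∃ τ : F[X], τ.eval 0 = 2 ∧ ρ s + ρ s⁻¹ = aeval θ τ := by
    intro s hs
    obtain ⟨r₀, r₁, r₂, r₃, h0, ha, hb⟩ := hrep s hs
    refine ⟨C 2 * r₀ + r₃ * X, by simp [h0], ?_⟩
    rw [ha, hb, map_add, map_mul, map_mul, aeval_C, aeval_X, hθ, mul_add]
    rw [show algebraMap F (Module.End F V) 2 = 2 by rw [map_ofNat], two_mul]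
    abel
  have hinvol : ∀ t ∈ H, t ≠ 1 → t * t = 1 →
      ∃ z ∈ H, z ≠ 1 ∧ Commute z x ∧ Commute z y ∧ (z * z = 1 ∨ z ^ p = 1) := by
    intro t ht ht1 htt
    obtain ⟨τ, -, hτ⟩ := hsum t ht
    exact ⟨t, ht, ht1, commute_of_invol h2 ρ hρ htt hτ (by rw [hx]; exact (Commute.one_right _).add_right (hPA τ)),
      commute_of_invol h2 ρ hρ htt hτ (by rw [hy]; exact (Commute.one_right _).add_right (hPB τ)), Or.inl htt⟩
  by_cases hnil : IsNilpotent θ
  · -- a `p`-group
    have hx' : x ∈ H := Subgroup.subset_closure (Set.mem_insert _ _)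
    have hy' : y ∈ H := Subgroup.subset_closure (Set.mem_insert_of_mem _ rfl)
    have hp : IsPGroup p H := by
      intro s
      obtain ⟨τ, hτ0, hτ⟩ := hsum s s.2
      obtain ⟨σ, hσ⟩ : X ∣ τ - C 2 := by rw [Polynomial.X_dvd_iff, coeff_zero_eq_eval_zero]; simp [hτ0]
      have hN : IsNilpotent (ρ (s : G) - 1) := by
        have hc : Commute (aeval θ (τ - C 2)) (ρ (s : G)) := by
          rw [map_sub, aeval_C, ← hτ]
          refine Commute.sub_left (Commute.add_left (Commute.refl _) ?_) (Algebra.commute_algebraMap_left _ _)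
          show ρ (s : G)⁻¹ * ρ s = ρ s * ρ (s : G)⁻¹
          rw [← map_mul, ← map_mul, inv_mul_cancel, mul_inv_cancel]
        have hn : IsNilpotent (aeval θ (τ - C 2)) := by
          rw [hσ, map_mul, aeval_X]
          exact Commute.isNilpotent_mul_right (hcomm σ (Commute.refl θ)).symm hnil
        have hsq : (ρ (s : G) - 1) ^ 2 = aeval θ (τ - C 2) * ρ s := by
          rw [map_sub, aeval_C, map_ofNat, ← hτ, sub_mul, add_mul, ← map_mul ρ _ (s : G), ← map_mul ρ _ (s : G),
            inv_mul_cancel, map_one, pow_two, map_mul]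
          noncomm_ring
        obtain ⟨m, hm⟩ := hc.isNilpotent_mul_right hn
        exact ⟨2 * m, by rw [pow_mul, hsq, hm]⟩
      obtain ⟨m, hm⟩ := hN
      have : CharP (Module.End F V) p := by
        have : Nontrivial V := by
          by_contra hnt
          rw [not_nontrivial_iff_subsingleton] at hnt
          exact hx1 (hρ (LinearMap.ext fun v => Subsingleton.elim _ _))
        exact charP_of_injective_algebraMap' F p
      refine ⟨m, Subtype.ext (hρ ?_)⟩
      rw [Subgroup.coe_pow, map_pow, Subgroup.coe_one, map_one]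
      refine sub_eq_zero.1 ?_
      have := sub_pow_char_pow_of_commute (R := Module.End F V) p m (Commute.one_right (ρ (s : G)))
      rw [one_pow] at this
      rw [← this]
      exact pow_eq_zero_of_le (Nat.lt_pow_self (Fact.out : p.Prime).one_lt).le hm
    have : Nontrivial H := ⟨⟨⟨x, hx'⟩, 1, fun e => hx1 (congrArg Subtype.val e)⟩⟩
    have : Nontrivial (Subgroup.center H) := hp.center_nontrivial
    obtain ⟨⟨z, hz⟩, hz1⟩ := exists_ne (α := Subgroup.center H) 1
    obtain ⟨k, hk⟩ := (hp.to_subgroup (Subgroup.center H)) ⟨z, hz⟩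
    obtain ⟨j, hjk, hj1, hjp⟩ : ∃ j, j ≤ k ∧ z ^ p ^ j ≠ 1 ∧ (z ^ p ^ j) ^ p = 1 := by
      have hk' : z ^ p ^ k = 1 := congrArg Subtype.val hk
      clear hk
      induction k with
      | zero =>
        rw [pow_zero, pow_one] at hk'
        exact absurd (Subtype.ext hk') hz1
      | succ k ih =>
        by_cases h : z ^ p ^ k = 1
        · obtain ⟨j, hj, h'⟩ := ih h
          exact ⟨j, by omega, h'⟩
        · exact ⟨k, by omega, h, by rw [← pow_mul, ← pow_succ, hk']⟩
    have hzc : ∀ a : H, a * z ^ p ^ j = z ^ p ^ j * a := fun a =>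
      Subgroup.mem_center_iff.1 (Subgroup.pow_mem _ hz _) a
    refine ⟨(z ^ p ^ j : H), Subtype.mem _, fun e => hj1 (Subtype.ext e), ?_, ?_, Or.inr ?_⟩
    · exact (congrArg Subtype.val (hzc ⟨x, hx'⟩)).symm
    · exact (congrArg Subtype.val (hzc ⟨y, hy'⟩)).symm
    · rw [← Subgroup.coe_pow, hjp, Subgroup.coe_one]
  · -- an irreducible constituent
    have hint : IsIntegral F θ := IsIntegral.of_finite F θ
    obtain ⟨π, hπm, hπ, hπX, hπd⟩ : ∃ π : F[X], π.Monic ∧ Irreducible π ∧ ¬ π ∣ X ∧ π ∣ minpoly F θ := by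
      obtain ⟨g, hg, hgX⟩ := (minpoly F θ).exists_eq_pow_rootMultiplicity_mul_and_not_dvd
        (minpoly.ne_zero hint) 0
      rw [C_0, sub_zero] at hg hgX
      have hgu : ¬ IsUnit g := by
        intro hu
        obtain ⟨r, hr, rfl⟩ := Polynomial.isUnit_iff.1 hu
        refine hnil ⟨(minpoly F θ).rootMultiplicity 0, ?_⟩
        have h0 := minpoly.aeval F θ
        rw [hg, map_mul, map_pow, aeval_X, aeval_C, Algebra.algebraMap_eq_smul_one, mul_smul_comm, mul_one,
          smul_eq_zero] at h0
        exact h0.resolve_left hr.ne_zero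
      obtain ⟨π, hπm, hπ, hπg⟩ := Polynomial.exists_monic_irreducible_factor g hgu
      refine ⟨π, hπm, hπ, fun hd => hgX ?_, hg ▸ dvd_mul_of_dvd_right hπg _⟩
      exact ((hπ.associated_of_dvd irreducible_X hd).symm.dvd).trans hπg
    have := Fact.mk hπ
    obtain ⟨m, hm⟩ := hπd
    have hm0 : aeval θ m ≠ 0 := fun h0 => by
      have h1 := Polynomial.degree_le_of_dvd (minpoly.dvd F θ h0) (fun e => minpoly.ne_zero hint (by rw [hm, e, mul_zero]))
      rw [hm, degree_mul] at h1
      have h3 := Polynomial.degree_pos_of_irreducible hπ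
      have hmb : m ≠ 0 := fun e => minpoly.ne_zero hint (by rw [hm, e, mul_zero])
      rw [degree_eq_natDegree hπm.ne_zero, degree_eq_natDegree hmb] at h1
      rw [degree_eq_natDegree hπm.ne_zero] at h3
      norm_cast at h1 h3
      omega
    obtain ⟨v, hv⟩ : ∃ v, aeval θ m v ≠ 0 := by
      by_contra! h
      exact hm0 (LinearMap.ext h)
    set u := aeval θ m v with hu
    have hπu : aeval θ π u = 0 := by
      rw [hu, ← Module.End.mul_apply, ← map_mul, ← hm, minpoly.aeval, LinearMap.zero_apply]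
    have hann : ∀ {w : V}, w ≠ 0 → aeval θ π w = 0 → ∀ f : F[X], aeval θ f w = 0 → π ∣ f := by
      intro w hw0 hw f hf
      by_contra hnd
      obtain ⟨a, b, hab⟩ := (hπ.coprime_iff_not_dvd.2 hnd : IsCoprime π f)
      have := congrArg (fun r => aeval θ r w) hab
      simp only [map_add, map_mul, map_one, LinearMap.add_apply, Module.End.mul_apply, hw, hf, map_zero,
        add_zero, Module.End.one_apply] at this
      exact hw0 this.symm
    have hstab : ∀ {C : Module.End F V}, (∀ r : F[X], Commute (aeval θ r) C) → ∀ {w : V},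
        aeval θ π w = 0 → aeval θ π (C w) = 0 := fun hC w hw => by
      rw [← Module.End.mul_apply, (hC π).eq, Module.End.mul_apply, hw, map_zero]
    -- a vector killed by `A`
    obtain ⟨w, hw0, hwπ, hAw⟩ : ∃ w, w ≠ 0 ∧ aeval θ π w = 0 ∧ A w = 0 := by
      by_cases hAu : A u = 0
      · exact ⟨u, hv, hπu, hAu⟩
      · exact ⟨A u, hAu, hstab hPA hπu, by rw [← Module.End.mul_apply, hA, LinearMap.zero_apply]⟩
    have hBw : aeval θ π (B w) = 0 := hstab hPB hwπ
    have hAB : A (B w) = θ w := by
      rw [hθ, LinearMap.add_apply, Module.End.mul_apply, Module.End.mul_apply, hAw, map_zero, add_zero]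
    have hfree : ∀ f g : F[X], aeval θ f w + aeval θ g (B w) = 0 → π ∣ f ∧ π ∣ g := by
      intro f g h
      have h1 := congrArg (fun v => A v) h
      simp only [map_add, map_zero, ← Module.End.mul_apply A, ← (hPA _).eq] at h1
      rw [Module.End.mul_apply, hAw, map_zero, zero_add, Module.End.mul_apply, hAB] at h1
      have h2' : π ∣ g * X := hann hw0 hwπ _ (by rw [map_mul, aeval_X, Module.End.mul_apply]; exact h1)
      have hg : π ∣ g := (hπ.prime.dvd_mul.1 h2').resolve_right hπX
      refine ⟨hann hw0 hwπ _ ?_, hg⟩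
      obtain ⟨g', rfl⟩ := hg
      rw [mul_comm π, map_mul, Module.End.mul_apply, hBw, map_zero, add_zero] at h
      exact h
    -- the plane over `AdjoinRoot π`
    let Φ : V → AdjoinRoot π →ₗ[F] V := fun v =>
      (LinearMap.applyₗ v) ∘ₗ (aeval θ).toLinearMap ∘ₗ AdjoinRoot.modByMonicHom hπm
    have hΦ : ∀ {v : V}, aeval θ π v = 0 → ∀ f : F[X], Φ v (AdjoinRoot.mk π f) = aeval θ f v := by
      intro v hv f
      show aeval θ (AdjoinRoot.modByMonicHom hπm (AdjoinRoot.mk π f)) v = _
      rw [AdjoinRoot.modByMonicHom_mk]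
      conv_rhs => rw [← f.modByMonic_add_div π]
      rw [map_add, mul_comm π, map_mul, LinearMap.add_apply, Module.End.mul_apply, hv, map_zero, add_zero]
    have hΦc : ∀ (C : Module.End F V), (∀ r : F[X], Commute (aeval θ r) C) → ∀ (v : V) (a : AdjoinRoot π),
        C (Φ v a) = Φ (C v) a := fun C hC v a => by
      show C (aeval θ _ v) = aeval θ _ (C v)
      rw [← Module.End.mul_apply, ← (hC _).eq, Module.End.mul_apply]
    obtain ⟨lam, hlam⟩ : ∃ lam, lam = AdjoinRoot.root π := ⟨_, rfl⟩
    let emb : (Fin 2 → AdjoinRoot π) → V := fun z => Φ w (z 0) + Φ (B w) (z 1)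
    have hθΦ : ∀ a, Φ (θ w) a = Φ w (lam * a) := fun a => by
      induction a using AdjoinRoot.induction_on with
      | ih f =>
        rw [hΦ (by rw [← Module.End.mul_apply, (hcomm π (Commute.refl θ)).eq, Module.End.mul_apply, hwπ, map_zero]),
          hlam, ← AdjoinRoot.mk_X, ← map_mul, hΦ hwπ, map_mul, aeval_X, Module.End.mul_apply,
          ← Module.End.mul_apply, (hcomm f (Commute.refl θ)).eq, Module.End.mul_apply]
    have hzero : ∀ z, emb z = 0 → z = 0 := fun z hz => by
      obtain ⟨f, hf⟩ := AdjoinRoot.mk_surjective (z 0)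
      obtain ⟨g, hg⟩ := AdjoinRoot.mk_surjective (z 1)
      rw [show emb z = Φ w (z 0) + Φ (B w) (z 1) from rfl, ← hf, ← hg, hΦ hwπ, hΦ hBw] at hz
      obtain ⟨h1, h3⟩ := hfree f g hz
      funext i
      fin_cases i
      · exact hf ▸ AdjoinRoot.mk_eq_zero.2 h1
      · exact hg ▸ AdjoinRoot.mk_eq_zero.2 h3
    have hinj : Function.Injective emb := fun z z' e => sub_eq_zero.1 (hzero _ (by
      simp only [emb, Pi.sub_apply, map_sub] at e ⊢
      rw [sub_add_sub_comm, e, sub_self]))
    -- the pairs acting alike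
    let R : Subgroup (G × SL(2, AdjoinRoot π)) :=
      { carrier := {h | ∀ z, ρ h.1 (emb z) = emb (h.2.1.mulVec z)}
        one_mem' := fun z => by simp
        mul_mem' := fun {a b} ha hb z => by
          rw [Prod.fst_mul, map_mul, Module.End.mul_apply, hb, ha, Prod.snd_mul,
            Matrix.SpecialLinearGroup.coe_mul, ← Matrix.mulVec_mulVec]
        inv_mem' := fun {a} ha z => by
          have e : a.2.1.mulVec (a.2⁻¹.1.mulVec z) = z := by
            rw [Matrix.mulVec_mulVec, ← Matrix.SpecialLinearGroup.coe_mul, mul_inv_cancel]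
            simp
          conv_lhs => rw [← e, ← ha, ← Module.End.mul_apply, Prod.fst_inv, ← map_mul, inv_mul_cancel, map_one]
          rfl }
    have hxR : (x, DicksonPSL2.upSL lam) ∈ R := fun z => by
      show ρ x (emb z) = _
      rw [hx, LinearMap.add_apply, Module.End.one_apply]
      simp only [emb, map_add, hΦc A hPA, hAw, hAB, hθΦ, DicksonPSL2.coe_upSL]
      simp [Φ, Matrix.mulVec, dotProduct, Fin.sum_univ_two]
      abel
    have hyR : (y, DicksonPSL2.loOne) ∈ R := fun z => by
      show ρ y (emb z) = _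
      rw [hy, LinearMap.add_apply, Module.End.one_apply]
      simp only [emb, map_add, hΦc B hPB, ← Module.End.mul_apply, hB, DicksonPSL2.coe_loOne]
      simp [Φ, Matrix.mulVec, dotProduct, Fin.sum_univ_two]
      abel
    -- generators of a subfield
    have hlam0 : lam ≠ 0 := fun e => hπX (AdjoinRoot.mk_eq_zero.1 (by rw [AdjoinRoot.mk_X, ← hlam, e]))
    let k₁ : Subfield (AdjoinRoot π) := Subfield.closure {lam}
    let lam₁ : k₁ := ⟨lam, Subfield.subset_closure rfl⟩
    have hgen : Subfield.closure ({lam₁} : Set k₁) = ⊤ := by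
      rw [eq_top_iff]
      rintro ⟨a, ha⟩ -
      have hle : k₁ ≤ (Subfield.closure ({lam₁} : Set k₁)).map k₁.subtype := by
        rw [Subfield.closure_le, Set.singleton_subset_iff]
        exact ⟨lam₁, Subfield.subset_closure rfl, rfl⟩
      obtain ⟨b, hb, hba⟩ := hle ha
      exact (Subtype.ext hba : b = ⟨a, ha⟩) ▸ hb
    have : Module.Finite F (AdjoinRoot π) := hπm.finite_adjoinRoot
    have : Finite (AdjoinRoot π) := Module.finite_of_finite F
    have : Fintype k₁ := Fintype.ofFinite _
    have : CharP (AdjoinRoot π) p := charP_of_injective_algebraMap (algebraMap F (AdjoinRoot π)).injective p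
    have : CharP k₁ p := (RingHom.charP_iff k₁.subtype k₁.subtype.injective p).2 inferInstance
    have h2k : (2 : AdjoinRoot π) ≠ 0 := by
      rw [← map_ofNat (algebraMap F (AdjoinRoot π)) 2]
      exact (_root_.map_ne_zero _).2 h2
    have h21 : (2 : k₁) ≠ 0 := fun h => h2k (congrArg Subtype.val h)
    let ι₁ := Matrix.SpecialLinearGroup.map (n := Fin 2) k₁.subtype
    have hneg : (-1 : SL(2, k₁)) ∈ Subgroup.closure ({DicksonPSL2.loOne, DicksonPSL2.upSL lam₁} : Set SL(2, k₁)) := by
      rcases DicksonPSL2.transvections_generate p h21 (lam := lam₁)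
        (fun h => hlam0 (congrArg Subtype.val h)) hgen with ⟨h, -⟩ | ⟨-, -, hc⟩
      · rw [h]; exact Subgroup.mem_top _
      · obtain ⟨t, ht⟩ := exists_prime_orderOf_dvd_card' (G := Subgroup.closure
          ({DicksonPSL2.loOne, DicksonPSL2.upSL lam₁} : Set SL(2, k₁))) 2 (by rw [hc]; norm_num)
        rw [← Subgroup.orderOf_coe] at ht
        rcases eq_one_or_neg_one_of_sq h21 (t : SL(2, k₁)) (by have h := pow_orderOf_eq_one (t : SL(2, k₁)); simp only [ht] at h; rwa [pow_two] at h) with e | e
        · rw [e, orderOf_one] at ht; omega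
        · rw [← e]; exact t.2
    have hmap : (Subgroup.closure ({DicksonPSL2.loOne, DicksonPSL2.upSL lam₁} : Set SL(2, k₁))).map ι₁ ≤
        (R ⊓ H.prod ⊤).map (MonoidHom.snd G _) := by
      rw [MonoidHom.map_closure, Subgroup.closure_le, Set.image_pair]
      rintro a (rfl | rfl)
      · refine ⟨(y, DicksonPSL2.loOne), ⟨hyR, Subgroup.subset_closure (Set.mem_insert_of_mem _ rfl), trivial⟩, ?_⟩
        ext i j
        rw [Matrix.SpecialLinearGroup.map_apply_coe, RingHom.mapMatrix_apply, Matrix.map_apply]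
        fin_cases i <;> fin_cases j <;> simp [DicksonPSL2.loOne]
      · refine ⟨(x, DicksonPSL2.upSL lam), ⟨hxR, Subgroup.subset_closure (Set.mem_insert _ _), trivial⟩, ?_⟩
        ext i j
        rw [Matrix.SpecialLinearGroup.map_apply_coe, RingHom.mapMatrix_apply, Matrix.map_apply]
        fin_cases i <;> fin_cases j <;> simp [DicksonPSL2.upSL, lam₁]
    obtain ⟨⟨s, M⟩, ⟨hsR, hsH, -⟩, hsM⟩ := hmap ⟨-1, hneg, rfl⟩
    have hMne : M ≠ 1 := fun e => by
      have h00 := congrArg (fun z : SL(2, AdjoinRoot π) => z.1 0 0) (hsM.symm.trans e)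
      simp [ι₁] at h00
      exact h2k (by linear_combination -h00)
    have hM2 : M ^ 2 = 1 := by
      rw [show M = ι₁ (-1) from hsM, ← map_pow, neg_one_sq, map_one]
    have heven : Even (orderOf s) := by
      have hpow : M ^ orderOf s = 1 := by
        have h := R.pow_mem hsR (orderOf s)
        rw [Prod.pow_def] at h
        refine Matrix.SpecialLinearGroup.ext _ _ fun i j => congrFun (congrFun (Matrix.ext_iff_mulVec.2 fun z => hinj ?_) i) j
        rw [← h z, pow_orderOf_eq_one, map_one, Matrix.SpecialLinearGroup.coe_one, Matrix.one_mulVec]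
        rfl
      rw [even_iff_two_dvd, ← orderOf_eq_prime hM2 hMne]
      exact orderOf_dvd_of_pow_eq_one hpow
    obtain ⟨t, ht, ht1, htt⟩ := exists_invol_of_even heven
    exact hinvol t (Subgroup.zpowers_le.2 hsH ht) ht1 htt
where
  /-- Square roots of one in `SL₂`. -/
  eq_one_or_neg_one_of_sq {k : Type _} [Field k] (h : (2 : k) ≠ 0) (g : SL(2, k)) (hg : g * g = 1) :
      g = 1 ∨ g = -1 := by
    have h1 := congrArg Subtype.val hg
    rw [Matrix.SpecialLinearGroup.coe_mul, Matrix.SpecialLinearGroup.coe_one] at h1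
    have e00 := congrFun (congrFun h1 0) 0
    have e01 := congrFun (congrFun h1 0) 1
    have e10 := congrFun (congrFun h1 1) 0
    simp [Matrix.mul_apply, Fin.sum_univ_two] at e00 e01 e10
    have hd := Matrix.SpecialLinearGroup.det_coe g
    rw [Matrix.det_fin_two] at hd
    have hs : g.1 0 0 + g.1 1 1 ≠ 0 := fun h0 => h (by linear_combination g.1 0 0 * h0 - e00 - hd)
    have hb : g.1 0 1 = 0 := (mul_eq_zero.1 (show g.1 0 1 * (g.1 0 0 + g.1 1 1) = 0 by linear_combination e01)).resolve_right hs
    have hc : g.1 1 0 = 0 := (mul_eq_zero.1 (show g.1 1 0 * (g.1 0 0 + g.1 1 1) = 0 by linear_combination e10)).resolve_right hs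
    rw [hb, hc, mul_zero, sub_zero] at hd
    rw [hb, hc, mul_zero, add_zero, ← sq] at e00
    rcases sq_eq_one_iff.1 e00 with h' | h'
    · rw [h', one_mul] at hd
      left; ext i j; fin_cases i <;> fin_cases j <;> simp [hb, hc, hd, h']
    · rw [h', neg_one_mul, neg_eq_iff_eq_neg] at hd
      right; ext i j; fin_cases i <;> fin_cases j <;> simp [hb, hc, hd, h']

end CfsgLib.OrthExtR
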