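import Cfsg.Agent.OrthExtR.Plane
import Cfsg.Agent.OrthExtR.QuadPair

/-!
# The plus type: a group properly above `Ω ∩ N(K)` contains `Ω`

Images of a totally singular plane meet it trivially or are equal to it, and then there would be more
disjoint ones than the space holds.
-/

set_option autoImplicit false
set_option linter.unusedSectionVars false
set_option maxHeartbeats 1000000

namespace CfsgLib.OrthExtR

open Matrix Module CfsgLib.Spinor CfsgLib.OrthMax

variable {F : Type*} [Field F] [Fintype F] {ι : Type} [Fintype ι] [DecidableEq ι]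
  {Q : QuadraticForm F (ι → F)}
variable {K : Type*} [Field K] [Algebra F K] [Module K (ι → F)] [IsScalarTower F K (ι → F)]

namespace Ext

variable (c : Ext Q K)
include c

/-- The members normalising the field. -/
def normSubgroup : Subgroup (Isom Q) where
  carrier := {g | Norm K g}
  one_mem' := fun k => ⟨k, fun x => by rw [mat_one, one_mulVec, one_mulVec]⟩
  mul_mem' := fun ha hb => Norm.mul ha hb
  inv_mem' := fun {g} hg => by
    have := c.finite
    have := c.nontrivial'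
    exact Norm.inv hg

theorem mem_normSubgroup {g : Isom Q} : g ∈ c.normSubgroup ↔ Norm K g := Iff.rfl

variable {M : Subgroup (Isom Q)}

/-- A root element of the plane adapted to two of its vectors. -/
theorem exists_adapted (hd : finrank K (ι → F) = 4) (hM : Below K M) {a b : ι → F} (hp : c.IsPlane a b)
    {i₁ i₂ : ι → F} (h₁ : i₁ ∈ plane K a b) (h₂ : i₂ ∈ plane K a b) (hli : LinearIndependent F ![i₁, i₂]) :
    ∃ (b₁ : ι → F) (e : K) (E : Isom Q), c.IsPlane i₁ b₁ ∧ plane K i₁ b₁ = plane K a b ∧ e ≠ 0 ∧ E ∈ M ∧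
      c.IsRoot i₁ b₁ e E ∧ ∀ z : Isom Q, Norm K z → z * E = E * z → mat Q z *ᵥ i₁ = i₁ → mat Q z *ᵥ i₂ = i₂ →
        Lin K z := by
  have := c.fdK
  have hi₁ : i₁ ≠ 0 := hli.ne_zero 0
  have hmk : ∀ b₁ ∈ plane K a b, (∀ l : K, b₁ ≠ l • i₁) →
      c.IsPlane i₁ b₁ ∧ plane K i₁ b₁ = plane K a b := by
    intro b₁ hb₁ hne
    have hp₁ : c.IsPlane i₁ b₁ := ⟨hp.h_comb h₁ h₁, hp.h_comb hb₁ hb₁, hp.h_comb h₁ hb₁, fun k l e => by
      have hl : l = 0 := by
        by_contra hl
        refine hne (-(l⁻¹ * k)) ?_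
        have := congrArg (l⁻¹ • ·) e
        simp only [smul_add, smul_zero, smul_smul, inv_mul_cancel₀ hl, one_smul] at this
        rw [neg_smul, eq_neg_iff_add_eq_zero, add_comm]
        exact this
      rw [hl, zero_smul, add_zero, smul_eq_zero] at e
      exact ⟨e.resolve_right hi₁, hl⟩⟩
    refine ⟨hp₁, Submodule.eq_of_le_of_finrank_le (fun x hx => ?_) (by rw [hp₁.finrank_plane, hp.finrank_plane])⟩
    obtain ⟨k, l, rfl⟩ := mem_plane.1 hx
    exact (Submodule.span K ({a, b} : Set (ι → F))).add_mem (Submodule.smul_mem _ k h₁) (Submodule.smul_mem _ l hb₁)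
  by_cases hdep : ∀ l : K, i₂ ≠ l • i₁
  · obtain ⟨hp₁, heq⟩ := hmk i₂ h₂ hdep
    obtain ⟨θ, hθ⟩ := c.exists_primitive
    obtain ⟨E, hEM, -, -, hE⟩ := c.exists_root_elt hM hp₁ θ
    exact ⟨i₂, θ, E, hp₁, heq, fun e => hθ ⟨0, by rw [map_zero, e]⟩, hEM, hE,
      fun z hz hc h1 h2 => c.lin_of_root hp₁ hθ hE hz hc h1 h2⟩
  · push Not at hdep
    obtain ⟨l, hl⟩ := hdep
    have hlF : l ∉ Set.range (algebraMap F K) := by
      rintro ⟨t, rfl⟩
      have := LinearIndependent.pair_iff.1 hli t (-1) (by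
        rw [hl, algebraMap_smul, neg_one_smul, add_neg_cancel])
      exact one_ne_zero (neg_eq_zero.1 this.2)
    obtain ⟨b₁, hb₁, hne⟩ : ∃ b₁ ∈ plane K a b, ∀ l : K, b₁ ≠ l • i₁ := by
      by_contra! hall
      obtain ⟨k, hk⟩ := hall a (mem_plane.2 ⟨1, 0, by simp⟩)
      obtain ⟨m, hm⟩ := hall b (mem_plane.2 ⟨0, 1, by simp⟩)
      have := hp.2.2.2 m (-k) (by rw [hk, hm, smul_smul, smul_smul, ← add_smul]; simp [mul_comm])
      rw [neg_eq_zero] at this
      exact hp.left_ne (by rw [hk, this.2, zero_smul])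
    obtain ⟨hp₁, heq⟩ := hmk b₁ hb₁ hne
    obtain ⟨E, hEM, -, -, hE⟩ := c.exists_root_elt hM hp₁ 1
    refine ⟨b₁, 1, E, hp₁, heq, one_ne_zero, hEM, hE, fun z hz _ h1 h2 => ?_⟩
    obtain ⟨σ, hσ, -⟩ := c.exists_semilinear hz
    rw [hl, hσ, h1] at h2
    intro k x
    rw [hσ, c.aut_eq_one hlF (smul_left_injective K hi₁ h2)]
    rfl

/-- Two images of a plane are equal or disjoint. -/
theorem plane_dichotomy (hd : finrank K (ι → F) = 4) (hM : Below K M) (hMΩ : M ≤ Cfsg.Omega F ⇑Q)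
    (hle : ¬ Cfsg.Omega F ⇑Q ≤ M) {a b : ι → F} (hp : c.IsPlane a b) {g : Isom Q} (hg : g ∈ M) :
    (∀ x ∈ plane K a b, mat Q g *ᵥ x ∈ plane K a b) ∨
      ∀ x ∈ plane K a b, mat Q g *ᵥ x ∈ plane K a b → x = 0 := by
  classical
  have := c.finite
  have := c.fdF
  have := c.fdK
  have := c.nontrivial'
  set L := plane K a b with hLdef
  set φ := Matrix.toLin' (mat Q g) with hφ
  have hφinj : Function.Injective φ := fun u v e => (mulVec_eq_iff g).1 e
  set I := L ⊓ L.map φ with hI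
  have hmap6 : finrank F (L.map φ) = 6 := by
    rw [← (Submodule.equivMapOfInjective φ hφinj L).finrank_eq, hp.finrank_plane]
  have hpar := parity_of_mem_omega c.two c.nondeg (hp.isHalf hd) (hMΩ hg)
  rw [hp.finrank_plane, ← hφ, ← hI] at hpar
  have hI6 : finrank F I ≤ 6 := hp.finrank_plane ▸ Submodule.finrank_mono inf_le_left
  by_cases h0 : finrank F I = 0
  · refine Or.inr fun x hx hgx => ?_
    have : mat Q g *ᵥ x ∈ I := ⟨hgx, x, hx, rfl⟩
    rw [Submodule.finrank_eq_zero.1 h0, Submodule.mem_bot] at this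
    exact (mulVec_eq_iff g).1 (this.trans (mulVec_zero _).symm)
  by_cases h6 : finrank F I = 6
  · refine Or.inl fun x hx => ?_
    have e : L.map φ = I := (Submodule.eq_of_le_of_finrank_le inf_le_right (by rw [h6, hmap6])).symm
    have : mat Q g *ᵥ x ∈ L.map φ := ⟨x, hx, rfl⟩
    rw [e] at this
    exact this.1
  exfalso
  -- two vectors in the meet
  obtain ⟨v, hv⟩ := exists_linearIndependent_of_le_finrank (R := F) (M := I) (show 2 ≤ finrank F I by omega)
  set i₁ : ι → F := (v 0 : ι → F) with hi₁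
  set i₂ : ι → F := (v 1 : ι → F) with hi₂
  have hli : LinearIndependent F ![i₁, i₂] := by
    have h := hv.map' I.subtype I.ker_subtype
    have e : (![i₁, i₂] : Fin 2 → ι → F) = I.subtype ∘ v := by funext i; fin_cases i <;> rfl
    rw [e]
    exact h
  obtain ⟨j₁, hj₁, hgj₁⟩ : ∃ j ∈ L, mat Q g *ᵥ j = i₁ := (v 0).2.2
  obtain ⟨j₂, hj₂, hgj₂⟩ : ∃ j ∈ L, mat Q g *ᵥ j = i₂ := (v 1).2.2
  have hlj : LinearIndependent F ![j₁, j₂] := LinearIndependent.pair_iff.2 fun s t e => by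
    refine LinearIndependent.pair_iff.1 hli s t ?_
    rw [← hgj₁, ← hgj₂, ← mulVec_smul, ← mulVec_smul, ← mulVec_add, e, mulVec_zero]
  obtain ⟨b₁, e₁, E, hp₁, hpe₁, he₁, hEM, hE, hAE⟩ := c.exists_adapted hd hM hp (v 0).2.1 (v 1).2.1 hli
  obtain ⟨b₂, e₂, E', hp₂, hpe₂, he₂, hE'M, hE', hAE'⟩ := c.exists_adapted hd hM hp hj₁ hj₂ hlj
  set y := g * E' * g⁻¹ with hy
  have hEfix : ∀ x ∈ L, mat Q E *ᵥ x = x := fun x hx => hE.fix hp₁ (by rw [hpe₁]; exact hx)
  have hE'fix : ∀ x ∈ L, mat Q E' *ᵥ x = x := fun x hx => hE'.fix hp₂ (by rw [hpe₂]; exact hx)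
  have hEim : ∀ x, mat Q E *ᵥ x - x ∈ L := fun x => by
    rw [hE x, add_sub_cancel_left, hLdef, ← hpe₁, sub_eq_add_neg, ← neg_smul]
    exact mem_plane.2 ⟨_, _, add_comm _ _⟩
  have hE'im : ∀ x, mat Q E' *ᵥ x - x ∈ L := fun x => by
    rw [hE' x, add_sub_cancel_left, hLdef, ← hpe₂, sub_eq_add_neg, ← neg_smul]
    exact mem_plane.2 ⟨_, _, add_comm _ _⟩
  have hyfix : ∀ x ∈ L, mat Q y *ᵥ (mat Q g *ᵥ x) = mat Q g *ᵥ x := fun x hx => by
    rw [hy, mat_mul, mat_mul, ← mulVec_mulVec, ← mulVec_mulVec, inv_mulVec_cancel, hE'fix x hx]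
  have hyim : ∀ x, mat Q y *ᵥ x - x = mat Q g *ᵥ (mat Q E' *ᵥ (mat Q g⁻¹ *ᵥ x) - mat Q g⁻¹ *ᵥ x) := fun x => by
    rw [hy, mulVec_sub, mulVec_inv_cancel, mat_mul, mat_mul, ← mulVec_mulVec, ← mulVec_mulVec]
  let ρ : Isom Q →* Module.End F (ι → F) :=
    { toFun := fun g => Matrix.toLinAlgEquiv' (mat Q g)
      map_one' := by rw [mat_one, map_one]
      map_mul' := fun a b => by rw [mat_mul, map_mul] }
  have hρinj : Function.Injective ρ := fun a b e => mat_ext Q (Matrix.toLinAlgEquiv'.injective e)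
  have hρ : ∀ g x, ρ g x = mat Q g *ᵥ x := fun g x => Matrix.toLinAlgEquiv'_apply _ _
  have hsq : ∀ (z : Isom Q), (∀ x, mat Q z *ᵥ (mat Q z *ᵥ x - x) = mat Q z *ᵥ x - x) →
      (ρ z - 1) * (ρ z - 1) = 0 := fun z hz => LinearMap.ext fun x => by
    rw [Module.End.mul_apply, LinearMap.sub_apply (ρ z) 1 ((ρ z - 1) x), Module.End.one_apply, LinearMap.sub_apply,
      Module.End.one_apply, hρ, hρ, hz, sub_self, LinearMap.zero_apply]
  obtain ⟨p, hp'⟩ := CharP.exists F
  have : Fact p.Prime := ⟨CharP.char_is_prime F p⟩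
  obtain ⟨z, hz, hz1, hzE, hzy, hzor⟩ := exists_central_of_pair c.two (p := p) ρ hρinj (x := E) (y := y)
    (A := ρ E - 1) (B := ρ y - 1) (add_sub_cancel _ _).symm (add_sub_cancel _ _).symm
    (hsq E fun x => hEfix _ (hEim x))
    (hsq y fun x => by rw [hyim]; exact hyfix _ (hE'im _))
    (hE.ne_one hp₁ hd he₁)
  have hzM : z ∈ M := (Subgroup.closure_le M).2 (Set.insert_subset hEM
    (Set.singleton_subset_iff.2 (M.mul_mem (M.mul_mem hg hE'M) (M.inv_mem hg)))) hz
  have hzfix : ∀ x ∈ I, mat Q z *ᵥ x = x := by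
    intro x hx
    let S : Subgroup (Isom Q) :=
      { carrier := {g | mat Q g *ᵥ x = x}
        one_mem' := by simp [mat_one]
        mul_mem' := fun {a b} ha hb => by
          simp only [Set.mem_setOf_eq] at ha hb ⊢
          rw [mat_mul, ← mulVec_mulVec, hb, ha]
        inv_mem' := fun {a} ha => by
          simp only [Set.mem_setOf_eq] at ha ⊢
          exact (mulVec_eq_iff a).1 (by rw [mulVec_inv_cancel, ha]) }
    refine ((Subgroup.closure_le S).2 (Set.insert_subset (hEfix x hx.1) (Set.singleton_subset_iff.2 ?_)) hz :)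
    obtain ⟨w, hw, rfl⟩ := hx.2
    exact hyfix w hw
  have hzN := (c.of_commute_root hd hM hMΩ hle hp₁ he₁ hE hzM hzE.eq).1
  set z' := g⁻¹ * z * g with hz'
  have hz'E : z' * E' = E' * z' := by
    have e : z * (g * E' * g⁻¹) = g * E' * g⁻¹ * z := hzy.eq
    calc z' * E' = g⁻¹ * (z * (g * E' * g⁻¹)) * g := by rw [hz']; group
      _ = E' * z' := by rw [e, hz']; group
  have hz'N := (c.of_commute_root hd hM hMΩ hle hp₂ he₂ hE'
    (M.mul_mem (M.mul_mem (M.inv_mem hg) hzM) hg) hz'E).1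
  have hz'j : ∀ j ∈ L, mat Q g *ᵥ j ∈ I → mat Q z' *ᵥ j = j := fun j hj hgj => by
    rw [hz', mat_mul, mat_mul, ← mulVec_mulVec, ← mulVec_mulVec, hzfix _ hgj, inv_mulVec_cancel]
  rcases hzor with htt | hzp
  · exact hz1 (c.eq_one_of_invol hd hp₁ he₁ hE hzN htt hzE.eq (hzfix _ (v 0).2))
  have hgN : Norm K g := by
    refine c.norm_of_unipotent hd hM hMΩ hle (p := p) (x := z) (y := z') hg (by rw [hz']; group)
      (hAE z hzN hzE.eq (hzfix _ (v 0).2) (hzfix _ (v 1).2))
      (hAE' z' hz'N hz'E (hz'j _ hj₁ (hgj₁ ▸ (v 0).2)) (hz'j _ hj₂ (hgj₂ ▸ (v 1).2))) ?_ ?_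
    · have := conj_pow (a := g⁻¹) (b := z) (i := p)
      rw [inv_inv] at this
      rw [hz', this, hzp]
      group
    · intro e1
      refine hz1 ?_
      have := congrArg (fun w => g * w * g⁻¹) e1
      simpa [hz', mul_assoc] using this
  let IK : Submodule K (ι → F) :=
    { I.toAddSubmonoid with
      smul_mem' := fun k x hx => by
        refine ⟨(Submodule.span K ({a, b} : Set (ι → F))).smul_mem k hx.1, mat Q g⁻¹ *ᵥ (k • x), ?_,
          mulVec_inv_cancel g _⟩
        obtain ⟨k', hk'⟩ := hgN.inv k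
        obtain ⟨w, hw, rfl⟩ := hx.2
        rw [hk', Matrix.toLin'_apply, inv_mulVec_cancel]
        exact (Submodule.span K ({a, b} : Set (ι → F))).smul_mem k' hw }
  have h3 := Module.finrank_mul_finrank F K IK
  rw [c.deg] at h3
  have h4 : finrank F IK = finrank F I := rfl
  omega

/-- **The plus type.** -/
theorem omega_le_plus (hd : finrank K (ι → F) = 4) (hM : Below K M) (hMΩ : M ≤ Cfsg.Omega F ⇑Q) {a b : ι → F}
    (hp : c.IsPlane a b) {g₀ : Isom Q} (hg₀ : g₀ ∈ M) (hg₀n : ¬ Norm K g₀) : Cfsg.Omega F ⇑Q ≤ M := by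
  classical
  by_contra hle
  have := c.finite
  have := c.fdF
  have := c.fdK
  have := c.nontrivial'
  set L := plane K a b with hLdef
  have haL : a ∈ L := mem_plane.2 ⟨1, 0, by simp⟩
  obtain ⟨a', hpa⟩ := c.exists_pair_of_singular hp.1 hp.left_ne
  obtain ⟨t, hat, ha't, htt⟩ := c.exists_aniso_perp hp.1 hpa.2.1 (by rw [hpa.2.2]; exact one_ne_zero)
  obtain ⟨s, hsM, hsl, -, hs⟩ := c.exists_eK hM hpa.2.1 ha't
  have hsa : mat Q s *ᵥ a ∉ L := fun hmem => by
    have h := ((hp.mem_iff hd).1 hmem).1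
    rw [hs, eK_apply, map_add, map_sub, map_sub, map_smul, map_smul, map_smul, hat, hp.1, hpa.vu, hpa.2.2,
      c.symm t a, hat] at h
    simp [q, htt, c.two'] at h
  -- the Eichler elements
  let Φ : (ι → F) →ₗ[K] (Fin 2 → K) := LinearMap.pi ![c.h a, c.h a']
  let R := LinearMap.ker Φ
  have hR : ∀ w : R, c.Rest a a' w := fun w => ⟨congrFun w.2 0, congrFun w.2 1⟩
  have hR2 : 2 ≤ finrank K R := by
    have h1 := LinearMap.finrank_range_add_finrank_ker Φ
    have h2 : finrank K (LinearMap.range Φ) ≤ 2 := (Submodule.finrank_le _).trans (finrank_fin_fun K).le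
    show 2 ≤ finrank K (LinearMap.ker Φ)
    omega
  choose e heM hel _ he using fun w : R => c.exists_eK hM hp.1 (hR w).1
  have hadd : ∀ w w' : R, e w * e w' = e (w + w') := fun w w' => isom_ext fun x => by
    rw [mat_mul, ← mulVec_mulVec, he, he, he, c.eK_mul hp.1 (hR w).1 (hR w').1, Submodule.coe_add]
  let pw : Bool → Isom Q := fun β => if β then s else 1
  have hpwM : ∀ β, pw β ∈ M := fun β => by cases β <;> simp [pw, hsM, M.one_mem]
  have hpwN : ∀ β, Norm K (pw β) := fun β => by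
    cases β
    · exact (c.normSubgroup).one_mem
    · exact hsl.norm
  let f : Bool × Option R → Isom Q := fun i => match i.2 with
    | none => pw i.1
    | some w => e w * g₀ * pw i.1
  have hfM : ∀ i, f i ∈ M := by
    rintro ⟨β, _ | w⟩
    · exact hpwM β
    · exact M.mul_mem (M.mul_mem (heM w) hg₀) (hpwM β)
  have hN : ∀ g ∈ M, (∀ x ∈ L, mat Q g *ᵥ x ∈ L) → Norm K g := by
    intro g hg hst
    refine c.norm_of_plane hd hM hMΩ hle hp hg fun k x hx => ?_
    have e : L.map (Matrix.toLin' (mat Q g)) = L :=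
      Submodule.eq_of_le_of_finrank_le (Submodule.map_le_iff_le_comap.2 hst) (le_of_eq
        (Submodule.equivMapOfInjective _ (fun u v e => (mulVec_eq_iff g).1 e) L).finrank_eq)
    have hk : k • (mat Q g *ᵥ x) ∈ L := (Submodule.span K ({a, b} : Set (ι → F))).smul_mem k (hst x hx)
    rw [← e] at hk
    obtain ⟨y, hy, hy'⟩ := hk
    exact ⟨y, hy, hy'.symm⟩
  have hpow : ∀ β β', (∀ x ∈ L, mat Q ((pw β')⁻¹ * pw β) *ᵥ x ∈ L) → β = β' := by
    intro β β' h
    cases β <;> cases β' <;> simp only [pw, Bool.false_eq_true, if_true, if_false, inv_one, one_mul, mul_one] at h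
    · rfl
    · exfalso
      have e1 : L.map (Matrix.toLin' (mat Q s⁻¹)) = L :=
        Submodule.eq_of_le_of_finrank_le (Submodule.map_le_iff_le_comap.2 h) (le_of_eq
          (Submodule.equivMapOfInjective _ (fun u v e => (mulVec_eq_iff s⁻¹).1 e) L).finrank_eq)
      obtain ⟨y, hy, hy'⟩ : a ∈ L.map (Matrix.toLin' (mat Q s⁻¹)) := by rw [e1]; exact haL
      rw [← hy', Matrix.toLin'_apply, mulVec_inv_cancel] at hsa
      exact hsa hy
    · exact absurd (h a haL) hsa
    · rfl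
  have hg₀e : ∀ w : R, (w : ι → F) ≠ 0 → ¬ Norm K (g₀⁻¹ * e w * g₀) := fun w hw hn =>
    hg₀n (c.norm_of_conj_eK hd hM hMΩ hle hpa (hR w) hw (hel w) (he w) hg₀ hn)
  have hinj : ∀ i j, (∀ x ∈ L, mat Q ((f j)⁻¹ * f i) *ᵥ x ∈ L) → i = j := by
    intro i j h
    have hn : (f j)⁻¹ * f i ∈ c.normSubgroup := hN _ (M.mul_mem (M.inv_mem (hfM j)) (hfM i)) h
    set N := c.normSubgroup
    have hp1 : ∀ β, pw β ∈ N := hpwN
    have he1 : ∀ w, e w ∈ N := fun w => (hel w).norm
    obtain ⟨β, o⟩ := i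
    obtain ⟨β', o'⟩ := j
    rcases o with _ | w <;> rcases o' with _ | w'
    · rw [hpow β β' h]
    · refine absurd (show g₀ ∈ N from ?_) hg₀n
      have := N.mul_mem (N.inv_mem (he1 w')) (N.mul_mem (hp1 β) (N.mul_mem (N.inv_mem hn) (N.inv_mem (hp1 β'))))
      simpa [f, mul_assoc] using this
    · refine absurd (show g₀ ∈ N from ?_) hg₀n
      have := N.mul_mem (N.inv_mem (he1 w)) (N.mul_mem (hp1 β') (N.mul_mem hn (N.inv_mem (hp1 β))))
      simpa [f, mul_assoc] using this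
    · have hd' : e w = e w' * e (w - w') := by rw [hadd, add_sub_cancel]
      have hf : (f (β', some w'))⁻¹ * f (β, some w) = (pw β')⁻¹ * (g₀⁻¹ * e (w - w') * g₀) * pw β := by
        simp only [f, hd']
        group
      by_cases hw : w = w'
      · subst hw
        rw [hpow β β' fun x hx => ?_]
        have := h x hx
        simpa [f, mul_assoc] using this
      · refine absurd (show g₀⁻¹ * e (w - w') * g₀ ∈ N from ?_)
          (hg₀e _ fun h0 => hw (sub_eq_zero.1 (Subtype.ext h0)))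
        rw [hf] at hn
        have := N.mul_mem (N.mul_mem (hp1 β') hn) (N.inv_mem (hp1 β))
        simpa [mul_assoc] using this
  -- counting
  let ψ : (Bool × Option R) × {x : L // x ≠ 0} → {x : ι → F // x ≠ 0} := fun z =>
    ⟨mat Q (f z.1) *ᵥ (z.2.1 : ι → F), mulVec_ne_zero _ fun e => z.2.2 (Subtype.ext e)⟩
  have hψ : Function.Injective ψ := by
    rintro ⟨i, ⟨x, hx⟩, hx0⟩ ⟨j, ⟨x', hx'⟩, hx'0⟩ e
    have e1 : mat Q (f i) *ᵥ x = mat Q (f j) *ᵥ x' := congrArg Subtype.val e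
    have e2 : mat Q ((f j)⁻¹ * f i) *ᵥ x = x' := by rw [mat_mul, ← mulVec_mulVec, e1, inv_mulVec_cancel]
    rcases c.plane_dichotomy hd hM hMΩ hle hp (M.mul_mem (M.inv_mem (hfM j)) (hfM i)) with h | h
    · obtain rfl := hinj i j h
      obtain rfl := (mulVec_eq_iff (f i)).1 e1
      rfl
    · exact absurd (Subtype.ext (h x hx (e2.symm ▸ hx'))) hx0
  have hle' := Nat.card_le_card_of_injective ψ hψ
  let _ := Fintype.ofFinite R
  rw [Nat.card_prod, Nat.card_prod, Nat.card_eq_fintype_card (α := Bool), Fintype.card_bool,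
    Nat.card_eq_fintype_card (α := Option R), Fintype.card_option, ← Nat.card_eq_fintype_card] at hle'
  have hL : Nat.card {x : L // x ≠ 0} + 1 = Fintype.card F ^ 6 := by
    let _ := Fintype.ofFinite L
    rw [Nat.card_eq_fintype_card, Fintype.card_subtype_compl, Fintype.card_subtype_eq,
      Nat.sub_add_cancel Fintype.card_pos, Module.card_eq_pow_finrank (K := F) (V := L), hp.finrank_plane]
  have h12 : finrank F (ι → F) = 12 := by
    rw [← Module.finrank_mul_finrank F K (ι → F), c.deg, hd]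
  have hV : Nat.card {x : ι → F // x ≠ 0} + 1 = Fintype.card F ^ 12 := by
    rw [Nat.card_eq_fintype_card, Fintype.card_subtype_compl, Fintype.card_subtype_eq,
      Nat.sub_add_cancel Fintype.card_pos, Module.card_eq_pow_finrank (K := F) (V := ι → F), h12]
  have hRc : Fintype.card F ^ 6 ≤ Nat.card R := by
    rw [Module.natCard_eq_pow_finrank (K := K), Module.natCard_eq_pow_finrank (K := F) (V := K), c.deg,
      Nat.card_eq_fintype_card, ← pow_mul]
    exact Nat.pow_le_pow_right Fintype.card_pos (by omega)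
  have hq : 2 ≤ Fintype.card F ^ 6 := le_trans Fintype.one_lt_card (Nat.le_self_pow (by norm_num) _)
  rw [show (12 : ℕ) = 6 + 6 from rfl, pow_add] at hV
  nlinarith [Nat.mul_le_mul_right (Nat.card {x : L // x ≠ 0}) hRc]

end Ext

end CfsgLib.OrthExtR
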