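import Cfsg.Agent.OrthExtR.PlusEndgame
import Cfsg.Agent.ExtField.Bridge
import Cfsg.Agent.LinearElements.QuadType
import Mathlib.FieldTheory.Finite.Basic

/-!
# The normaliser of a self-adjoint cubic field of matrices in `Ω⁺₁₂(q)`

`isMaximalIn_cubic_plus`: it is maximal. The plus type gives a totally singular plane over the field: an
anisotropic binary form has character sum `-|K|`.
-/

set_option autoImplicit false
set_option linter.unusedSectionVars false
set_option backward.isDefEq.respectTransparency false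

namespace CfsgLib.OrthExtR

open Matrix Module Polynomial Cfsg.Geo CfsgLib.Spinor CfsgLib.OrthMax
open CfsgLib.ExtField (mulVecModule isField_subalgebra exists_dual_comp mem_normalizer_of_conj_mem)

variable {F : Type*} [Field F] [Fintype F]

/-- The character sum of an anisotropic binary form is minus the order of the field. -/
theorem sum_aniso_binary {K : Type*} [Field K] [Fintype K] (h2 : (2 : K) ≠ 0) {χ : AddChar K ℂ}
    (hχ : χ.IsPrimitive) {α β : K} (hani : ∀ x y : K, α * x ^ 2 + β * y ^ 2 = 0 → x = 0 ∧ y = 0) :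
    ∑ z : K × K, χ (α * z.1 ^ 2 + β * z.2 ^ 2) = -(Fintype.card K : ℂ) := by
  classical
  have hα : α ≠ 0 := fun e => one_ne_zero (hani 1 0 (by rw [e]; ring)).1
  have hβ : β ≠ 0 := fun e => one_ne_zero (hani 0 1 (by rw [e]; ring)).2
  set N : K × K → K := fun z => α * z.1 ^ 2 + β * z.2 ^ 2 with hN
  set S := ∑ z, χ (N z)
  have hshift : ∀ k : K, k ≠ 0 → ∑ z, χ (k * N z) = S := by
    intro k hk
    obtain ⟨a, b, hab⟩ : ∃ a b, α * a ^ 2 + β * b ^ 2 = α * k := by
      have hd1 : (C α * X ^ 2 : K[X]).degree = 2 := degree_C_mul_X_pow 2 hα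
      have hd2 : (C β * X ^ 2 - C (α * k) : K[X]).degree = 2 := by
        rw [degree_sub_C (by rw [degree_C_mul_X_pow 2 hβ]; decide), degree_C_mul_X_pow 2 hβ]; rfl
      have hcard : Fintype.card K % 2 = 1 := FiniteField.odd_card_of_char_ne_two fun h => h2 (by
        have := ringChar.Nat.cast_ringChar (R := K)
        rw [h] at this
        exact_mod_cast this)
      obtain ⟨a, b, hab⟩ := FiniteField.exists_root_sum_quadratic hd1 hd2 hcard
      simp only [eval_mul, eval_sub, eval_pow, eval_C, eval_X] at hab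
      exact ⟨a, b, by linear_combination hab⟩
    let T : K × K → K × K := fun z => (a * z.1 - β / α * b * z.2, b * z.1 + a * z.2)
    have hT : ∀ z, N (T z) = k * N z := fun z => by
      simp only [N, T]
      field_simp
      linear_combination (α * z.1 ^ 2 + β * z.2 ^ 2) * hab
    have hTinj : Function.Injective T := fun z w e => by
      have h0 : N (T (z - w)) = 0 := by
        have e1 : a * z.1 - β / α * b * z.2 = a * w.1 - β / α * b * w.2 := congrArg Prod.fst e
        have e2 : b * z.1 + a * z.2 = b * w.1 + a * w.2 := congrArg Prod.snd e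
        have : T (z - w) = (0, 0) := Prod.ext
          (by show a * (z.1 - w.1) - β / α * b * (z.2 - w.2) = 0; linear_combination e1)
          (by show b * (z.1 - w.1) + a * (z.2 - w.2) = 0; linear_combination e2)
        rw [this]
        simp [N]
      rw [hT] at h0
      obtain ⟨h3, h4⟩ := hani _ _ ((mul_eq_zero.1 h0).resolve_left hk)
      exact sub_eq_zero.1 (Prod.ext h3 h4)
    exact Fintype.sum_bijective T (Finite.injective_iff_bijective.1 hTinj) _ _ fun z => by rw [hT]
  have h1 : ∑ k : K, ∑ z, χ (k * N z) = (Fintype.card K : ℂ) := by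
    rw [Finset.sum_comm, Finset.sum_congr rfl fun z _ => AddChar.sum_mulShift (N z) hχ]
    rw [Finset.sum_eq_single (0 : K × K)]
    · simp [N]
    · intro z _ hz
      rw [if_neg fun e => hz (Prod.ext (hani _ _ e).1 (hani _ _ e).2)]
      simp
    · simp
  rw [← Finset.add_sum_erase _ _ (Finset.mem_univ (0 : K)),
    Finset.sum_congr rfl fun k hk => hshift k (Finset.ne_of_mem_erase hk)] at h1
  simp only [zero_mul, AddChar.map_zero_eq_one, Finset.sum_const, Finset.card_univ, Fintype.card_prod,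
    Finset.card_erase_of_mem (Finset.mem_univ (0 : K)), nsmul_eq_mul, mul_one] at h1
  have hq : 1 < Fintype.card K := Fintype.one_lt_card
  rw [Nat.cast_sub (by omega), Nat.cast_mul, Nat.cast_one] at h1
  have hq1 : ((Fintype.card K : ℂ) - 1) ≠ 0 := by
    rw [sub_ne_zero]
    exact_mod_cast (by omega : Fintype.card K ≠ 1)
  refine mul_left_cancel₀ hq1 ?_
  linear_combination h1

namespace Ext

variable {ι : Type} [Fintype ι] [DecidableEq ι] {Q : QuadraticForm F (ι → F)}
variable {K : Type*} [Field K] [Algebra F K] [Module K (ι → F)] [IsScalarTower F K (ι → F)]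
variable (c : Ext Q K)
include c

/-- A member of `Ω` outside the normaliser. -/
theorem exists_omega_not_norm : ∃ g ∈ Cfsg.Omega F ⇑Q, ¬ Norm K g := by
  have := c.fdF
  obtain ⟨u, v, hp⟩ := c.exists_pair
  obtain ⟨σ, hσ⟩ := c.exists_aut
  obtain ⟨r, hr⟩ := c.exists_acts hp.1 (c.skewMap_isSkew σ (2 : K)⁻¹)
  refine ⟨r * r, mul_self_mem_omega c.two c.nondeg r, fun hn => hσ (AlgEquiv.ext fun k => ?_)⟩
  have h2 := c.two'
  have hrr : c.Acts u (skewMap σ 1) (r * r) := fun x => by
    rw [mat_mul, ← mulVec_mulVec, hr, hr]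
    simp only [map_add, map_smul, smul_eq_mul, hp.1, mul_zero, add_zero, skewMap_apply]
    rw [add_assoc, ← add_smul]
    congr 2
    have hhalf : (2 : K)⁻¹ = algebraMap F K (2 : F)⁻¹ := by rw [map_inv₀, map_ofNat]
    rw [hhalf, one_mul, one_mul, ← Algebra.smul_def, ← Algebra.smul_def, map_smul, ← add_smul_two c.two]
  obtain ⟨w, hw, hw0⟩ := hp.exists_rest
  have hl : Lin K (r * r) := by
    intro k x
    obtain ⟨k', hk'⟩ := hn k
    have h1 := hk' w
    have hkw : c.h u (k • w) = 0 := by rw [map_smul, hw.1, smul_zero]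
    rw [hrr, hrr, hkw, hw.1, map_zero, zero_smul, add_zero, add_zero] at h1
    rw [hk', ← smul_left_injective K hw0 h1]
  -- a linear skew map vanishes
  have hT : ∀ k, skewMap σ 1 k = k * skewMap σ 1 1 := by
    intro k
    refine smul_left_injective K hp.left_ne ?_
    have := hl k v
    rw [hrr, hrr, map_smul, hp.2.2, smul_eq_mul, mul_one, smul_add, add_right_inj, ← mul_smul] at this
    exact this
  have := hT k
  simp only [skewMap_apply, map_one, one_mul, sub_self, mul_zero, sub_eq_zero] at this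
  have h3 : σ (σ k) = k := by rw [this, AlgEquiv.apply_symm_apply]
  have h4 := c.aut_cube σ k
  rwa [h3] at h4
where
  add_smul_two {A : Type _} [AddCommGroup A] [Module F A] (h2 : (2 : F) ≠ 0) {a b : A} :
      a - b = ((2 : F)⁻¹ • a - (2 : F)⁻¹ • b) + ((2 : F)⁻¹ • a - (2 : F)⁻¹ • b) := by
    rw [← smul_sub, ← add_smul, show (2 : F)⁻¹ + 2⁻¹ = 1 by field_simp; norm_num, one_smul]

/-- Plus type gives a totally singular plane over the field. -/
theorem exists_plane_of_plus (hd : finrank K (ι → F) = 4) {T : Submodule F (ι → F)} (hT : ∀ x ∈ T, Q x = 0)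
    (hT6 : finrank F T = 6) : ∃ a b, c.IsPlane a b := by
  classical
  have := c.finite
  have := c.fdF
  have := c.fdK
  let _ := Fintype.ofFinite K
  obtain ⟨u, v, hp⟩ := c.exists_pair
  by_contra hno
  push Not at hno
  have hani : ∀ w, c.Rest u v w → c.h w w = 0 → w = 0 := fun w hw hww => by_contra fun hw0 =>
    hno u w ⟨hp.1, hww, hw.1, fun k l e => by
      have := congrArg (c.h v) e
      rw [map_add, map_smul, map_smul, hp.vu, hw.2, smul_zero, add_zero, map_zero, smul_eq_mul, mul_one] at this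
      rw [this, zero_smul, zero_add, smul_eq_zero] at e
      exact ⟨this, e.resolve_right hw0⟩⟩
  obtain ⟨e₁, he₁, he₁0⟩ := hp.exists_rest
  have hα : c.h e₁ e₁ ≠ 0 := fun e => he₁0 (hani _ he₁ e)
  obtain ⟨e₂, he₂, h12, he₂0⟩ : ∃ t, c.Rest u v t ∧ c.h e₁ t = 0 ∧ t ≠ 0 := by
    let Φ : (ι → F) →ₗ[K] (Fin 3 → K) := LinearMap.pi ![c.h u, c.h v, c.h e₁]
    have h1 := LinearMap.finrank_range_add_finrank_ker Φ
    have h2 : finrank K (LinearMap.range Φ) ≤ 3 := (Submodule.finrank_le _).trans (finrank_fin_fun K).le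
    obtain ⟨t, ht, ht0⟩ := Submodule.exists_mem_ne_zero_of_ne_bot (p := LinearMap.ker Φ) fun e => by
      rw [e, finrank_bot, hd] at h1; omega
    rw [LinearMap.mem_ker] at ht
    exact ⟨t, ⟨congrFun ht 0, congrFun ht 1⟩, congrFun ht 2, ht0⟩
  have hβ : c.h e₂ e₂ ≠ 0 := fun e => he₂0 (hani _ he₂ e)
  -- coordinates
  let Ψ : (ι → F) →ₗ[K] (Fin 4 → K) := LinearMap.pi ![c.h u, c.h v, c.h e₁, c.h e₂]
  have hΨsurj : Function.Surjective Ψ := fun y => by
    refine ⟨y 0 • v + y 1 • u + (y 2 / c.h e₁ e₁) • e₁ + (y 3 / c.h e₂ e₂) • e₂, ?_⟩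
    funext i
    fin_cases i <;>
      simp [Ψ, hp.1, hp.2.1, hp.2.2, hp.vu, he₁.1, he₁.2, he₂.1, he₂.2, h12, c.symm e₁ u, c.symm e₁ v,
        c.symm e₂ u, c.symm e₂ v, c.symm e₂ e₁, hα, hβ]
  have hΨinj : Function.Injective Ψ :=
    (LinearMap.injective_iff_surjective_of_finrank_eq_finrank (by rw [hd, finrank_fin_fun])).2 hΨsurj
  have hdec : ∀ w, c.Rest u v w →
      w = (c.h e₁ w / c.h e₁ e₁) • e₁ + (c.h e₂ w / c.h e₂ e₂) • e₂ := fun w hw => hΨinj (by
    funext i
    fin_cases i <;>
      simp [Ψ, hw.1, hw.2, he₁.1, he₁.2, he₂.1, he₂.2, h12, c.symm e₂ e₁, hα, hβ])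
  let X : Submodule F (ι → F) := (Submodule.span K ({u, v} : Set (ι → F))).restrictScalars F
  let Y : Submodule F (ι → F) := (LinearMap.ker (LinearMap.pi ![c.h u, c.h v])).restrictScalars F
  have hY : ∀ w, w ∈ Y ↔ c.Rest u v w := fun w => by
    simp [Y, Ext.Rest, funext_iff, Fin.forall_fin_two]
  have hsep : QuadType.Sep Q X := by
    intro x hx hx0
    obtain ⟨k, l, rfl⟩ := Submodule.mem_span_pair.1 hx
    obtain ⟨y, hy, hxy⟩ : ∃ y ∈ Submodule.span K ({u, v} : Set (ι → F)), c.h (k • u + l • v) y ≠ 0 := by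
      by_cases hk : k = 0
      · refine ⟨u, Submodule.subset_span (Set.mem_insert _ _), ?_⟩
        have hl : l ≠ 0 := fun e => hx0 (by rw [hk, e]; simp)
        simpa [hk, hp.vu] using hl
      · exact ⟨v, Submodule.subset_span (Set.mem_insert_of_mem _ rfl), by simpa [hp.2.1, hp.2.2] using hk⟩
    by_contra hall
    push Not at hall
    refine hxy (c.h_eq_of_trace fun l' => ?_)
    have := hall (l' • y) (Submodule.smul_mem _ l' hy)
    rw [QuadraticMap.polarBilin_apply_apply, c.tr, map_smul, smul_eq_mul] at this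
    rw [this, mul_zero, map_zero]
  have horth : ∀ x ∈ X, ∀ y ∈ Y, QuadraticMap.polarBilin Q x y = 0 := fun x hx y hy => by
    obtain ⟨k, l, rfl⟩ := Submodule.mem_span_pair.1 hx
    obtain ⟨h1, h2⟩ := (hY y).1 hy
    rw [QuadraticMap.polarBilin_apply_apply, c.tr]
    simp [h1, h2]
  have htop : X ⊔ Y = ⊤ := eq_top_iff.2 fun x _ => by
    rw [c.decomp u v x]
    exact Submodule.add_mem_sup (Submodule.mem_span_pair.2 ⟨_, _, rfl⟩) ((hY _).2 (hp.rest_spec x))
  have hV : finrank F (ι → F) = 12 := by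
    rw [← Module.finrank_mul_finrank F K (ι → F), c.deg, hd]
  have gV := (QuadType.gauss_eq (Q := Q) 6 (QuadType.sep_top c.nondeg) (by rw [finrank_top, hV])).1
    ⟨T, le_top, hT, by rw [hT6, finrank_top, hV]⟩
  have hX6 : finrank F X = 2 * 3 := by
    have hli : LinearIndependent K ![u, v] := LinearIndependent.pair_iff.2 fun k l e => by
      have h1 := congrArg (c.h v) e
      have h2 := congrArg (c.h u) e
      simp [hp.2.1, hp.vu, hp.1, hp.2.2] at h1 h2
      exact ⟨h1, h2⟩
    have h1 := finrank_span_eq_card hli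
    rw [Matrix.range_cons, Matrix.range_cons, Matrix.range_empty, Set.union_empty, Set.singleton_union,
      Fintype.card_fin] at h1
    have := Module.finrank_mul_finrank F K (Submodule.span K ({u, v} : Set (ι → F)))
    rw [c.deg, h1] at this
    exact this.symm
  have gX := (QuadType.gauss_eq (Q := Q) 3 hsep hX6).1 ⟨(Submodule.span K {u}).restrictScalars F,
    Submodule.span_mono (by simp), fun x hx => by
      obtain ⟨k, rfl⟩ := Submodule.mem_span_singleton.1 hx
      exact c.quad_zero (by simp [hp.1]), by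
      have h1 := Module.finrank_mul_finrank F K (Submodule.span K ({u} : Set (ι → F)))
      rw [c.deg, finrank_span_singleton hp.left_ne] at h1
      rw [hX6]
      exact congrArg (2 * ·) h1.symm⟩
  -- the anisotropic part
  let ψ := AddChar.FiniteField.primitiveChar_to_Complex F
  let φ : K →+ F := ((2 : F)⁻¹ • Algebra.trace F K).toAddMonoidHom
  let χ : AddChar K ℂ := ψ.compAddMonoidHom φ
  have hχ : χ.IsPrimitive := fun a ha h => by
    refine AddChar.FiniteField.primitiveChar_to_Complex_isPrimitive F one_ne_zero (DFunLike.ext _ _ fun t => ?_)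
    obtain ⟨k, hk⟩ := Algebra.trace_surjective F K (2 * t)
    have h1 := DFunLike.congr_fun h (a⁻¹ * k)
    rw [AddChar.mulShift_apply, mul_inv_cancel_left₀ ha] at h1
    simp [χ, φ, hk, c.two] at h1
    rw [AddChar.mulShift_apply, one_mul]
    exact h1
  have hquad : ∀ w : ι → F, Q w = φ (c.h w w) := fun w => by
    show Q w = (2 : F)⁻¹ * Algebra.trace F K (c.h w w)
    rw [← c.quad_eq, inv_mul_cancel_left₀ c.two]
  let emb : K × K → Y := fun z => ⟨z.1 • e₁ + z.2 • e₂, (hY _).2
    ⟨by simp [he₁.1, he₂.1], by simp [he₁.2, he₂.2]⟩⟩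
  have hemb : Function.Bijective emb := by
    constructor
    · intro z z' e
      have e' : z.1 • e₁ + z.2 • e₂ = z'.1 • e₁ + z'.2 • e₂ := congrArg Subtype.val e
      have h1 := congrArg (c.h e₁) e'
      have h3 := congrArg (c.h e₂) e'
      simp [h12, c.symm e₂ e₁] at h1 h3
      exact Prod.ext (h1.resolve_right hα) (h3.resolve_right hβ)
    · rintro ⟨w, hw⟩
      exact ⟨(c.h e₁ w / c.h e₁ e₁, c.h e₂ w / c.h e₂ e₂), Subtype.ext (hdec w ((hY w).1 hw)).symm⟩
  have hh : ∀ z : K × K, c.h (z.1 • e₁ + z.2 • e₂) (z.1 • e₁ + z.2 • e₂) =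
      c.h e₁ e₁ * z.1 ^ 2 + c.h e₂ e₂ * z.2 ^ 2 := fun z => by
    simp [h12, c.symm e₂ e₁]
    ring
  have gY : QuadType.gauss Q Y = -(Fintype.card K : ℂ) := by
    rw [QuadType.gauss, ← finsum_eq_of_bijective (f := fun z : K × K => χ (c.h e₁ e₁ * z.1 ^ 2 + c.h e₂ e₂ * z.2 ^ 2))
      emb hemb fun z => ?_, finsum_eq_sum_of_fintype]
    · refine sum_aniso_binary c.two' hχ fun x y h => ?_
      have h0 : emb (x, y) = emb (0, 0) := Subtype.ext (by
        show x • e₁ + y • e₂ = (0 : K) • e₁ + (0 : K) • e₂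
        rw [hani (x • e₁ + y • e₂) ((hY _).1 (emb (x, y)).2) ((hh (x, y)).trans h)]
        simp)
      exact Prod.ext_iff.1 (hemb.1 h0)
    · show χ _ = ψ (Q (z.1 • e₁ + z.2 • e₂))
      rw [hquad, hh]
      rfl
  have hg := QuadType.gauss_sup hsep horth
  rw [htop, gV, gX, gY, Module.card_eq_pow_finrank (K := F) (V := K), c.deg] at hg
  push_cast at hg
  have hne : (Fintype.card F : ℂ) ^ 6 ≠ 0 := pow_ne_zero _ (Nat.cast_ne_zero.2 Fintype.card_ne_zero)
  exact hne (by linear_combination hg / 2)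

end Ext

set_option maxHeartbeats 1000000 in
set_option synthInstance.maxHeartbeats 100000 in
/-- The normaliser of a self-adjoint cubic field is maximal in `Ω⁺₁₂(q)`, `q` odd. -/
theorem isMaximalIn_cubic_plus {ι : Type} [Fintype ι] [DecidableEq ι] {Q : (ι → F) → F}
    (hQ : IsNondegenerateQuadraticForm Q) (hι : Fintype.card ι = 12) (hplus : IsPlusTypeOn Q ⊤)
    (hodd : Odd (Fintype.card F)) {K : Subalgebra F (Matrix ι ι F)} (hK : IsFieldSubalgebra 3 K)
    (hsa : IsSelfAdjointFor (QuadraticMap.polar Q) K) :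
    IsMaximalIn (omegaGL Q) (subalgebraNormalizer K ⊓ omegaGL Q) := by
  classical
  have h2 : (2 : F) ≠ 0 := fun h => by
    have hc : (Fintype.card F : F) = 0 := FiniteField.cast_card_eq_zero F
    obtain ⟨k, hk⟩ := hodd
    rw [hk] at hc
    push_cast at hc
    rw [h, zero_mul, zero_add] at hc
    exact one_ne_zero hc
  set q := AschbacherQuad.quadForm hQ
  have hq := AschbacherQuad.quadForm_nondegenerate hQ
  change IsMaximalIn (omegaGL ⇑q) (subalgebraNormalizer K ⊓ omegaGL ⇑q)
  have hsa' : IsSelfAdjointFor (QuadraticMap.polar ⇑q) K := hsa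
  have hplus' : IsPlusTypeOn (⇑q) ⊤ := hplus
  have : Nonempty ι := Fintype.card_pos_iff.1 (by omega)
  let _ : Field K := (isField_subalgebra hK).toField
  let _ : Module K (ι → F) := mulVecModule K
  have hsmul : ∀ (a : K) (v : ι → F), a • v = (a : Matrix ι ι F) *ᵥ v := fun _ _ => rfl
  have : IsScalarTower F K (ι → F) := ⟨fun c a v => by rw [hsmul, hsmul]; exact Matrix.smul_mulVec c _ v⟩
  have : Finite K := Subtype.finite
  have htr0 : Algebra.trace F K ≠ 0 := by
    obtain ⟨z, hz⟩ := Algebra.trace_surjective F K 1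
    exact fun h => zero_ne_one (by rw [← hz, h]; rfl)
  choose ψ hψ using fun x => exists_dual_comp (K := K) htr0 (QuadraticMap.polarBilin q x)
  have huniq : ∀ a b : K, (∀ l : K, Algebra.trace F K (l * a) = Algebra.trace F K (l * b)) → a = b := by
    intro a b h
    by_contra hne
    obtain ⟨s, hs'⟩ := Algebra.trace_surjective F K 1
    have := h (s / (a - b))
    rw [← sub_eq_zero, ← map_sub, ← mul_sub, div_mul_cancel₀ _ (sub_ne_zero.mpr hne), hs'] at this
    exact one_ne_zero this
  have hψl : ∀ (x y : ι → F) (l : K), Algebra.trace F K (l * ψ x y) = QuadraticMap.polar (⇑q) x (l • y) :=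
    fun x y l => by rw [← smul_eq_mul, ← map_smul, hψ, QuadraticMap.polarBilin_apply_apply]
  have hkl : ∀ (l : K) (x y : ι → F),
      QuadraticMap.polar (⇑q) (l • x) y = QuadraticMap.polar (⇑q) x (l • y) := fun l x y => by
    rw [hsmul, hsmul]; exact hsa' _ l.2 x y
  let h : (ι → F) →ₗ[K] (ι → F) →ₗ[K] K :=
    { toFun := ψ
      map_add' := fun a b => LinearMap.ext fun y => huniq _ _ fun l => by
        rw [hψl, QuadraticMap.polar_add_left, LinearMap.add_apply, mul_add, map_add, hψl, hψl]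
      map_smul' := fun k a => LinearMap.ext fun y => huniq _ _ fun l => by
        rw [hψl, hkl, RingHom.id_apply, LinearMap.smul_apply, smul_eq_mul, ← mul_assoc, hψl,
          smul_smul, mul_comm] }
  have hsymm : ∀ u v, h u v = h v u := fun u v => huniq _ _ fun l => by
    show Algebra.trace F K (l * ψ u v) = Algebra.trace F K (l * ψ v u)
    rw [hψl, hψl, ← hkl, QuadraticMap.polar_comm]
  have hd' : finrank K (ι → F) = 4 := by
    have := Module.finrank_mul_finrank F K (ι → F)
    rw [hK.finrank_eq, Module.finrank_pi, hι] at this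
    omega
  let c : Ext q K :=
    { h := h
      tr := fun u v => (hψ u v).symm
      symm := hsymm
      deg := hK.finrank_eq
      dim := by omega
      two := h2
      nondeg := hq }
  obtain ⟨T, -, hT, hT6⟩ := hplus'
  rw [finrank_top, Module.finrank_pi, hι] at hT6
  obtain ⟨a, b, hp⟩ := c.exists_plane_of_plus hd' hT (by omega)
  have hmem : ∀ g : Isom q, (g : GL ι F) ∈ subalgebraNormalizer K ↔ Norm K g := by
    intro g
    constructor
    · intro hg k
      refine ⟨⟨_, (hg k.1).mp k.2⟩, fun v => ?_⟩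
      rw [hsmul, hsmul, Matrix.mulVec_mulVec, Matrix.mulVec_mulVec]
      congr 1
      show ((g : GL ι F) : Matrix ι ι F) * k.1 = _ * ((g : GL ι F) : Matrix ι ι F)
      rw [mul_assoc _ _ ((g : GL ι F) : Matrix ι ι F), Units.inv_mul, mul_one]
    · intro hg
      refine mem_normalizer_of_conj_mem fun k hk => ?_
      obtain ⟨b, hb⟩ := hg ⟨k, hk⟩
      have e : ((g : GL ι F) : Matrix ι ι F) * k = b.1 * ((g : GL ι F) : Matrix ι ι F) := by
        refine Matrix.ext_iff_mulVec.mpr fun v => ?_
        rw [← Matrix.mulVec_mulVec, ← Matrix.mulVec_mulVec]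
        exact hb v
      rw [e, mul_assoc, Units.mul_inv, mul_one]
      exact b.2
  refine OrthMax.isMaximalIn_omega _ ?_ fun M hM g hgM hgΩ hg => ?_
  · obtain ⟨g, hgΩ, hg⟩ := c.exists_omega_not_norm
    exact ⟨g, hgΩ, fun h' => hg ((hmem g).1 h')⟩
  · exact le_trans (c.omega_le_plus hd' (M := M ⊓ Cfsg.Omega F ⇑q)
      (fun x hx hxn => ⟨hM x hx ((hmem x).2 hxn), hx⟩) inf_le_right hp ⟨hgM, hgΩ⟩ fun h' => hg ((hmem g).2 h'))
      inf_le_left

end CfsgLib.OrthExtR
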