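import Cfsg.Agent.OrthExtR.Setup

/-!
# Root elements on a singular line generate `Ω`

The isometries fixing the orthogonal of a singular `K`-line correspond to the skew maps of `K`; one of them
in the group puts all of them there, and then `Ω`.
-/

set_option autoImplicit false
set_option linter.unusedSectionVars false
set_option maxHeartbeats 1000000

namespace CfsgLib.OrthExtR

open Matrix Module CfsgLib.Spinor CfsgLib.OrthMax CfsgLib.Forms

variable {F : Type*} [Field F] [Fintype F] {ι : Type} [Fintype ι] [DecidableEq ι]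
  {Q : QuadraticForm F (ι → F)}
variable {K : Type*} [Field K] [Algebra F K] [Module K (ι → F)] [IsScalarTower F K (ι → F)]

/-- Skewness for the trace form. -/
def IsSkew (T : K →ₗ[F] K) : Prop :=
  ∀ k l, Algebra.trace F K (T k * l) + Algebra.trace F K (k * T l) = 0

/-- The values of a skew map on a basis. -/
noncomputable def vals (b : Basis (Fin 3) F K) (T : K →ₗ[F] K) : Fin 3 → F :=
  ![Algebra.trace F K (b 0 * T (b 1)), Algebra.trace F K (b 0 * T (b 2)), Algebra.trace F K (b 1 * T (b 2))]

/-- The skew map of a parameter. -/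
noncomputable def skewMap (σ : K ≃ₐ[F] K) (e : K) : K →ₗ[F] K :=
  LinearMap.mulLeft F e ∘ₗ σ.toLinearMap - (σ.symm).toLinearMap ∘ₗ LinearMap.mulLeft F e

theorem skewMap_apply (σ : K ≃ₐ[F] K) (e k : K) : skewMap σ e k = e * σ k - σ.symm (e * k) := rfl

namespace Ext

variable (c : Ext Q K)
include c

/-- Acting as `x ↦ x + T(h(u,x)) u`. -/
def Acts (u : ι → F) (T : K → K) (r : Isom Q) : Prop := ∀ x, mat Q r *ᵥ x = x + T (c.h u x) • u

theorem acts_inZ {u : ι → F} {T : K →ₗ[F] K} {r : Isom Q} (hr : c.Acts u T r) : c.InZ u r :=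
  fun x hx => by rw [hr, hx, map_zero, zero_smul, add_zero]

/-- The isometries fixing the orthogonal of a singular line. -/
theorem exists_skew {u v : ι → F} (hp : c.Pair u v) {r : Isom Q} (hr : c.InZ u r) :
    ∃ T : K →ₗ[F] K, IsSkew T ∧ c.Acts u T r := by
  let T : K →ₗ[F] K := ((c.h v).restrictScalars F) ∘ₗ
    ((Matrix.toLin' (mat Q r) - LinearMap.id) ∘ₗ (LinearMap.toSpanSingleton K (ι → F) v).restrictScalars F)
  have hT : ∀ k, T k = c.h v (mat Q r *ᵥ (k • v) - k • v) := fun k => by simp [T]
  have hperp : ∀ (k : K) (y : ι → F), c.h u y = 0 → c.h (mat Q r *ᵥ (k • v) - k • v) y = 0 := by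
    intro k y hy
    refine c.h_eq_of_trace fun l => ?_
    have hly : c.h u (l • y) = 0 := by rw [map_smul, hy, smul_zero]
    have := polar_mulVec Q r (k • v) (l • y)
    rw [hr _ hly, c.tr, c.tr] at this
    rw [mul_zero, map_zero, ← smul_eq_mul, ← (c.h (mat Q r *ᵥ (k • v) - k • v)).map_smul, map_sub,
      LinearMap.sub_apply, map_sub, this, sub_self]
  have hd : ∀ k, mat Q r *ᵥ (k • v) = k • v + T k • u := by
    intro k
    set d := mat Q r *ᵥ (k • v) - k • v with hddef
    have h1 : c.h d u = 0 := hperp k u hp.1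
    have hR : c.rest u v d = 0 := c.h_sep fun z => by
      have hz := hp.rest_spec z
      have h0 := hperp k _ hz.1
      have hd0 := hp.rest_spec d
      rw [← hddef] at h0
      conv at h0 => lhs; arg 1; arg 2; rw [c.decomp u v d]
      simp only [map_add, LinearMap.map_smul₂, LinearMap.add_apply, smul_eq_mul, hz.1, hz.2, mul_zero,
        zero_add] at h0
      conv_lhs => rw [c.decomp u v z]
      simp only [map_add, map_smul, smul_eq_mul, h0, c.symm (c.rest u v d) u, c.symm (c.rest u v d) v, hd0.1,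
        hd0.2, mul_zero, add_zero]
    rw [← sub_eq_iff_eq_add', ← hddef, hT, ← hddef]
    conv_lhs => rw [c.decomp u v d, hR, c.symm u d, h1, zero_smul, add_zero, add_zero]
  have hact : c.Acts u T r := by
    intro x
    have hy : c.h u (x - c.h u x • v) = 0 := by simp [hp.2.2]
    conv_lhs => rw [show x = (x - c.h u x • v) + c.h u x • v by abel, mulVec_add, hr _ hy, hd]
    abel
  refine ⟨T, fun k l => ?_, hact⟩
  have := polar_mulVec Q r (k • v) (l • v)
  rw [hd, hd, c.tr, c.tr] at this
  simp only [map_add, map_smul, LinearMap.add_apply, LinearMap.smul_apply, smul_eq_mul, hp.1, hp.2.1, hp.2.2,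
    hp.vu, mul_zero, mul_one, add_zero, zero_add] at this
  rw [map_zero, mul_comm l (T k), mul_comm (T l) k] at this
  linear_combination this

/-- Skew maps act as isometries. -/
theorem exists_acts {u : ι → F} (hu : c.h u u = 0) {T : K →ₗ[F] K} (hT : IsSkew T) :
    ∃ r : Isom Q, c.Acts u T r := by
  let f : (ι → F) →ₗ[F] (ι → F) := LinearMap.id +
    (LinearMap.toSpanSingleton K (ι → F) u).restrictScalars F ∘ₗ T ∘ₗ (c.h u).restrictScalars F
  have hf : ∀ x, f x = x + T (c.h u x) • u := fun x => by simp [f]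
  have hq : ∀ x, Q (f x) = Q x := by
    intro x
    refine mul_left_cancel₀ c.two ?_
    rw [c.quad_eq, c.quad_eq, hf]
    simp only [map_add, map_smul, LinearMap.add_apply, LinearMap.smul_apply, smul_eq_mul, hu, c.symm x u,
      mul_zero, add_zero]
    have h2 := hT (c.h u x) (c.h u x)
    rw [mul_comm (c.h u x) (T _)] at h2
    linear_combination h2
  have hinj : Function.Injective f := by
    rw [← LinearMap.ker_eq_bot, Submodule.eq_bot_iff]
    intro x hx
    rw [LinearMap.mem_ker, hf, add_eq_zero_iff_eq_neg] at hx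
    have h0 := congrArg (c.h u) hx
    rw [map_neg, map_smul, hu, smul_zero, neg_zero] at h0
    rw [hx, h0, map_zero, zero_smul, neg_zero]
  obtain ⟨g, hg⟩ := (ExtField.glAut : GL ι F ≃* _).surjective (LinearEquiv.ofInjectiveEndo f hinj)
  have hgv : ∀ x, (g : Matrix ι ι F) *ᵥ x = f x := fun x => by rw [← ExtField.glAut_apply, hg]; rfl
  refine ⟨⟨g, fun x _ => ?_⟩, fun x => (hgv x).trans (hf x)⟩
  show Q ((g : Matrix ι ι F) *ᵥ x) = Q x
  rw [hgv, hq]

theorem skew_ext (b : Basis (Fin 3) F K) {T T' : K →ₗ[F] K} (hT : IsSkew T) (hT' : IsSkew T')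
    (h : vals b T = vals b T') : T = T' := by
  set D := T - T' with hD
  have hskew : ∀ k l, Algebra.trace F K (D k * l) + Algebra.trace F K (k * D l) = 0 := fun k l => by
    simp only [hD, LinearMap.sub_apply, sub_mul, mul_sub, map_sub]
    linear_combination hT k l - hT' k l
  have h01 := congrFun h 0
  have h02 := congrFun h 1
  have h12 := congrFun h 2
  simp only [vals, Matrix.cons_val] at h01 h02 h12
  have hlt : ∀ i j : Fin 3, i < j → Algebra.trace F K (b i * D (b j)) = 0 := by
    intro i j hij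
    simp only [hD, LinearMap.sub_apply, mul_sub, map_sub, sub_eq_zero]
    fin_cases i <;> fin_cases j <;> first | exact h01 | exact h02 | exact h12 | exact absurd hij (by decide)
  have hall : ∀ i j, Algebra.trace F K (b i * D (b j)) = 0 := by
    intro i j
    have e := hskew (b i) (b j)
    rcases lt_trichotomy i j with hij | rfl | hij
    · exact hlt i j hij
    · rw [mul_comm (D (b i))] at e
      exact (mul_eq_zero.1 (show (2 : F) * _ = 0 by linear_combination e)).resolve_left c.two
    · rw [mul_comm (D (b i)), hlt j i hij, zero_add] at e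
      exact e
  refine sub_eq_zero.1 (b.ext fun j => ?_)
  refine c.h_eq_of_trace fun l => ?_
  rw [LinearMap.zero_apply, mul_zero, map_zero]
  have hl : ((Algebra.trace F K).comp (LinearMap.mulRight F (D (b j)))) = 0 :=
    b.ext fun i => by simpa using hall i j
  exact LinearMap.congr_fun hl l

/-- Skew maps are root maps. -/
theorem exists_root (T : K →ₗ[F] K) (hT : IsSkew T) :
    ∃ a b : K, ∀ k, T k = Algebra.trace F K (a * k) • b - Algebra.trace F K (b * k) • a := by
  have := c.fdF
  let e := finBasisOfFinrankEq F K c.deg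
  let Φ : K →ₗ[F] (Fin 3 → F) := LinearMap.pi fun i => (Algebra.trace F K).comp (LinearMap.mulRight F (e i))
  have hΦ : ∀ a i, Φ a i = Algebra.trace F K (a * e i) := fun a i => rfl
  have hinj : Function.Injective Φ := by
    rw [← LinearMap.ker_eq_bot, Submodule.eq_bot_iff]
    intro a ha
    refine c.h_eq_of_trace fun l => ?_
    rw [mul_zero, map_zero]
    have hl : (Algebra.trace F K).comp (LinearMap.mulRight F a) = 0 := e.ext fun i => by
      have := congrFun ha i
      rw [hΦ, mul_comm] at this
      simpa using this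
    exact LinearMap.congr_fun hl l
  have hsurj : Function.Surjective Φ := (LinearMap.injective_iff_surjective_of_finrank_eq_finrank
    (by rw [c.deg, finrank_fin_fun])).1 hinj
  obtain ⟨p, hp⟩ : ∃ p : Fin 3 → F, p = vals e T := ⟨_, rfl⟩
  suffices ∃ A B : Fin 3 → F, p = ![B 0 * A 1 - B 1 * A 0, B 0 * A 2 - B 2 * A 0, B 1 * A 2 - B 2 * A 1] by
    obtain ⟨A, B, hAB⟩ := this
    obtain ⟨a, ha⟩ := hsurj A
    obtain ⟨b, hb⟩ := hsurj B
    let T' : K →ₗ[F] K := ((Algebra.trace F K).comp (LinearMap.mulLeft F a)).smulRight b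
      - ((Algebra.trace F K).comp (LinearMap.mulLeft F b)).smulRight a
    have hT'a : ∀ k, T' k = Algebra.trace F K (a * k) • b - Algebra.trace F K (b * k) • a := fun k => rfl
    refine ⟨a, b, fun k => ?_⟩
    rw [← hT'a]
    refine LinearMap.congr_fun (c.skew_ext e hT (fun k l => ?_) ?_) k
    · simp only [hT'a, sub_mul, mul_sub, smul_mul_assoc, mul_smul_comm, map_sub, map_smul, smul_eq_mul,
        mul_comm k a, mul_comm k b]
      ring
    · rw [← hp, hAB, ← ha, ← hb]
      simp only [vals, hT'a, mul_sub, mul_smul_comm, map_sub, map_smul, smul_eq_mul, hΦ, mul_comm (e 0) a,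
        mul_comm (e 0) b, mul_comm (e 1) a, mul_comm (e 1) b, mul_comm (e 2) a, mul_comm (e 2) b]
      ext i
      fin_cases i <;> simp <;> ring
  by_cases h01 : p 0 = 0
  · refine ⟨![0, 0, 1], ![p 1, p 2, 0], ?_⟩
    ext i
    fin_cases i <;> simp [h01]
  · refine ⟨![0, p 0, p 1], ![1, 0, -(p 2) / p 0], ?_⟩
    ext i
    fin_cases i <;> simp <;> field_simp

theorem skewMap_isSkew (σ : K ≃ₐ[F] K) (e : K) : IsSkew (skewMap σ e) := by
  have key : ∀ k l, Algebra.trace F K (σ.symm (e * k) * l) = Algebra.trace F K (e * k * σ l) := fun k l => by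
    conv_lhs => rw [← σ.symm_apply_apply l, ← map_mul σ.symm, Algebra.trace_eq_of_algEquiv]
  intro k l
  simp only [skewMap_apply, sub_mul, mul_sub, map_sub, mul_comm k (σ.symm _), key]
  rw [show k * (e * σ l) = e * k * σ l by ring, show e * l * σ k = e * σ k * l by ring]
  ring

/-- All skew maps have a parameter. -/
theorem exists_param {σ : K ≃ₐ[F] K} (hσ : σ ≠ 1) {T : K →ₗ[F] K} (hT : IsSkew T) :
    ∃ e, T = skewMap σ e := by
  have := c.fdF
  let b := finBasisOfFinrankEq F K c.deg
  let Φ : K →ₗ[F] (Fin 3 → F) :=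
    { toFun := fun e => vals b (skewMap σ e)
      map_add' := fun e e' => by
        ext i; fin_cases i <;> simp [vals, skewMap_apply, add_mul, mul_sub, mul_add] <;> ring
      map_smul' := fun t e => by
        ext i; fin_cases i <;> simp [vals, skewMap_apply, smul_mul_assoc, mul_sub] <;> ring }
  have hinj : Function.Injective Φ := by
    rw [← LinearMap.ker_eq_bot, Submodule.eq_bot_iff]
    intro e he
    have h0 : skewMap σ e = 0 := c.skew_ext b (c.skewMap_isSkew σ e) (fun k l => by simp)
      (by rw [show vals b (skewMap σ e) = Φ e from rfl, show Φ e = 0 from he]; ext i; fin_cases i <;> simp [vals])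
    by_contra hne
    refine hσ (AlgEquiv.ext fun k => ?_)
    have h1 := LinearMap.congr_fun h0 1
    have hk := LinearMap.congr_fun h0 k
    rw [skewMap_apply, map_one, mul_one, LinearMap.zero_apply, sub_eq_zero] at h1
    rw [skewMap_apply, map_mul, ← h1, LinearMap.zero_apply, sub_eq_zero] at hk
    have h2 : σ (σ k) = k := by rw [mul_left_cancel₀ hne hk, AlgEquiv.apply_symm_apply]
    have h3 := c.aut_cube σ k
    rwa [h2] at h3
  obtain ⟨e, he⟩ := (LinearMap.injective_iff_surjective_of_finrank_eq_finrank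
    (by rw [c.deg, finrank_fin_fun])).1 hinj (vals b T)
  exact ⟨e, c.skew_ext b hT (c.skewMap_isSkew σ e) he.symm⟩

theorem exists_aut : ∃ σ : K ≃ₐ[F] K, σ ≠ 1 := by
  have := c.finite
  have := c.fdF
  by_contra! h
  have h3 : Nat.card (K ≃ₐ[F] K) = 3 := by rw [IsGalois.card_aut_eq_finrank, c.deg]
  have : Subsingleton (K ≃ₐ[F] K) := ⟨fun a b => by rw [h a, h b]⟩
  rw [Nat.card_of_subsingleton (1 : K ≃ₐ[F] K)] at h3
  omega

theorem acts_unique {u : ι → F} {T : K → K} {r r' : Isom Q} (h : c.Acts u T r) (h' : c.Acts u T r') : r = r' :=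
  isom_ext fun x => by rw [h, h']

/-- A subset stable under addition and under the torus is everything. -/
theorem eq_univ_of_stable {σ : K ≃ₐ[F] K} (_hσ : σ ≠ 1) (S : AddSubgroup K) {e₀ : K} (he₀ : e₀ ∈ S)
    (hne : e₀ ≠ 0) (hS : ∀ l : K, l ≠ 0 → ∀ e ∈ S, l * l * σ (l * l) * e ∈ S) (e : K) : e ∈ S := by
  classical
  have := c.finite
  have := c.fdF
  let _ := Fintype.ofFinite K
  let L : Subring K :=
    { carrier := {x | ∀ y ∈ S, x * y ∈ S}
      mul_mem' := fun {a b} ha hb y hy => by rw [mul_assoc]; exact ha _ (hb y hy)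
      one_mem' := fun y hy => by rwa [one_mul]
      add_mem' := fun {a b} ha hb y hy => by rw [add_mul]; exact S.add_mem (ha y hy) (hb y hy)
      zero_mem' := fun y _ => by rw [zero_mul]; exact S.zero_mem
      neg_mem' := fun {a} ha y hy => by rw [neg_mul]; exact S.neg_mem (ha y hy) }
  let L' : Subfield K :=
    { L with
      inv_mem' := fun x hx => by
        rcases eq_or_ne x 0 with rfl | hx0
        · rw [_root_.inv_zero]; exact L.zero_mem
        · have h1 := FiniteField.pow_card_sub_one_eq_one x hx0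
          have h2 : Fintype.card K - 1 = (Fintype.card K - 2) + 1 := by
            have := Fintype.one_lt_card (α := K); omega
          rw [h2, pow_succ] at h1
          rw [← eq_inv_of_mul_eq_one_left h1]
          exact L.pow_mem hx _ }
  -- the torus gives many elements
  let ψ : Kˣ →* Kˣ :=
    { toFun := fun l => (l * l) * Units.map σ.toAlgHom.toRingHom.toMonoidHom (l * l)
      map_one' := by simp
      map_mul' := fun a b => by simp only [map_mul]; ac_rfl }
  have hψ : ∀ l : Kˣ, ((ψ l : Kˣ) : K) = (l : K) * l * σ ((l : K) * l) := fun l => rfl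
  have hker : Nat.card ψ.ker ≤ 4 := by
    have : Finite (rootsOfUnity 4 K) := inferInstance
    refine le_trans (Subgroup.card_le_of_le (K := rootsOfUnity 4 K) fun l hl => ?_) ?_
    · have h1 := congrArg Units.val (MonoidHom.mem_ker.1 hl)
      rw [hψ, Units.val_one, map_mul] at h1
      rw [mem_rootsOfUnity, Units.ext_iff, Units.val_pow_eq_pow_val, Units.val_one]
      have h2 : (l : K) * σ l * ((l : K) * σ l) = 1 := by linear_combination h1
      obtain ⟨ε, hε, hεl⟩ : ∃ ε : F, (ε = 1 ∨ ε = -1) ∧ σ (l : K) = algebraMap F K ε * (l : K)⁻¹ := by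
        rcases mul_self_eq_one_iff.1 h2 with h | h
        · exact ⟨1, Or.inl rfl, by rw [map_one, one_mul]; exact eq_inv_of_mul_eq_one_right h⟩
        · refine ⟨-1, Or.inr rfl, ?_⟩
          rw [map_neg, map_one, neg_one_mul, ← inv_neg]
          exact eq_inv_of_mul_eq_one_right (by linear_combination -h)
      have hl0 : (l : K) ≠ 0 := l.ne_zero
      have hεK : algebraMap F K ε * algebraMap F K ε = 1 := by rcases hε with rfl | rfl <;> simp
      have h5 : σ (σ (l : K)) = l := by
        rw [hεl, map_mul, AlgEquiv.commutes, map_inv₀, hεl, mul_inv, inv_inv, ← mul_assoc,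
          inv_eq_of_mul_eq_one_right hεK, hεK, one_mul]
      have h6 : σ (l : K) = l := by
        have := c.aut_cube σ (l : K)
        rwa [h5] at this
      rw [h6] at h2
      linear_combination h2
    · exact card_rootsOfUnity K 4
  have hrange : Nat.card ψ.range ≤ Nat.card L' := by
    refine Nat.card_le_card_of_injective (fun x => ⟨((x : Kˣ) : K), ?_⟩) fun x y hxy => ?_
    · obtain ⟨l, hl⟩ := x.2
      intro y hy
      rw [← hl, hψ]
      exact hS _ l.ne_zero y hy
    · exact Subtype.ext (Units.ext (congrArg Subtype.val hxy))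
  have hN : Nat.card K = Fintype.card F ^ 3 := by
    rw [Module.natCard_eq_pow_finrank (K := F), c.deg, Nat.card_eq_fintype_card]
  have hidx := ψ.ker.card_mul_index
  rw [Subgroup.index_ker, Nat.card_units, hN] at hidx
  have h1 : Fintype.card F ^ 3 - 1 ≤ 4 * Nat.card L' := by
    rw [← hidx]; exact Nat.mul_le_mul hker hrange
  have hq : 3 ≤ Fintype.card F := by
    have h2 : 1 < Fintype.card F := Fintype.one_lt_card
    by_contra hq
    have h3 : Fintype.card F = 2 := by omega
    have h4 : (2 : F) = 0 := by exact_mod_cast h3 ▸ FiniteField.cast_card_eq_zero F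
    exact c.two h4
  have hcardK := Module.natCard_eq_pow_finrank (K := L') (V := K)
  have hd : finrank L' K = 1 := by
    have h27 : 27 ≤ Nat.card K := by rw [hN]; exact Nat.pow_le_pow_left hq 3
    have hd0 : finrank L' K ≠ 0 := by
      intro h0
      rw [h0, pow_zero] at hcardK
      omega
    by_contra hd1
    have h2 : Nat.card L' ^ 2 ≤ Nat.card K := by
      rw [hcardK]
      exact Nat.pow_le_pow_right Nat.card_pos (by omega)
    rw [← hN] at h1
    have h3 : 7 ≤ Nat.card L' := by omega
    have h4 : 7 * Nat.card L' ≤ Nat.card L' ^ 2 := by rw [sq]; exact Nat.mul_le_mul_right _ h3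
    omega
  rw [hd, pow_one] at hcardK
  have hall : e / e₀ ∈ L' := by
    by_contra hnot
    have hlt : Nat.card L' < Nat.card K := by
      rw [Nat.card_eq_fintype_card, Nat.card_eq_fintype_card]
      exact Fintype.card_subtype_lt hnot
    omega
  have := (show e / e₀ ∈ L from hall) e₀ he₀
  rwa [div_mul_cancel₀ _ hne] at this

variable {M : Subgroup (Isom Q)}

/-- One root element gives all of them. -/
theorem inZ_mem_of_one (hM : Below K M) {u v : ι → F} (hp : c.Pair u v) {r₀ : Isom Q} (hr₀ : r₀ ∈ M)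
    (hz₀ : c.InZ u r₀) (hne : r₀ ≠ 1) {r : Isom Q} (hr : c.InZ u r) : r ∈ M := by
  obtain ⟨σ, hσ⟩ := c.exists_aut
  let S : AddSubgroup K :=
    { carrier := {e | ∀ r, c.Acts u (skewMap σ e) r → r ∈ M}
      zero_mem' := fun r hr => by
        have : r = 1 := isom_ext fun x => by
          rw [hr, mat_one, one_mulVec, skewMap_apply]; simp
        rw [this]; exact M.one_mem
      add_mem' := fun {e e'} he he' r hr => by
        obtain ⟨s, hs⟩ := c.exists_acts hp.1 (c.skewMap_isSkew σ e)
        obtain ⟨s', hs'⟩ := c.exists_acts hp.1 (c.skewMap_isSkew σ e')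
        have : r = s * s' := isom_ext fun x => by
          rw [mat_mul, ← mulVec_mulVec, hs, hs', hr]
          simp only [skewMap_apply, map_add, map_sub, map_smul, smul_eq_mul, hp.1, mul_zero, add_zero,
            sub_zero, add_mul]
          module
        rw [this]; exact M.mul_mem (he s hs) (he' s' hs')
      neg_mem' := fun {e} he r hr => by
        obtain ⟨s, hs⟩ := c.exists_acts hp.1 (c.skewMap_isSkew σ e)
        have : r = s⁻¹ := isom_ext fun x => (mulVec_eq_iff s).1 (by
          rw [mulVec_inv_cancel, hs, hr]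
          simp only [skewMap_apply, map_add, map_smul, smul_eq_mul, hp.1, mul_zero, add_zero, neg_mul, map_neg]
          module)
        rw [this]; exact M.inv_mem (he s hs) }
  obtain ⟨T₀, hT₀, hact₀⟩ := c.exists_skew hp hz₀
  obtain ⟨e₀, rfl⟩ := c.exists_param hσ hT₀
  have he₀ : e₀ ∈ S := fun s hs => by rwa [c.acts_unique hs hact₀]
  have he₀0 : e₀ ≠ 0 := fun e => hne (isom_ext fun x => by
    rw [hact₀, mat_one, one_mulVec, skewMap_apply, e]; simp)
  have hS : ∀ l : K, l ≠ 0 → ∀ e ∈ S, l * l * σ (l * l) * e ∈ S := by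
    intro l hl e he s hs
    set k := l * l with hk
    have hk0 : k ≠ 0 := mul_ne_zero hl hl
    obtain ⟨d, hdM, -, hd⟩ := c.exists_tor hM hp hl
    obtain ⟨t, ht⟩ := c.exists_acts hp.1 (c.skewMap_isSkew σ e)
    have hd' := hd.inv c hp hk0
    have : s = d * t * d⁻¹ := isom_ext fun x => by
      rw [mat_mul, mat_mul, ← mulVec_mulVec, ← mulVec_mulVec, ht, mulVec_add, mulVec_inv_cancel,
        hd.apply_left c hp, hs]
      congr 2
      rw [hd' x, torMap_apply]
      simp only [skewMap_apply, map_add, map_smul, smul_eq_mul, hp.1, hp.2.2, mul_zero, add_zero, mul_one,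
        inv_inv, mul_sub, ← hk]
      rw [show k * σ k * e * c.h u x = σ k * (e * (k * c.h u x)) by ring, map_mul σ.symm (σ k),
        AlgEquiv.symm_apply_apply, sub_one_mul, mul_sub, map_sub σ, map_sub σ.symm, map_mul σ k]
      ring
    rw [this]
    exact M.mul_mem (M.mul_mem hdM (he t ht)) (M.inv_mem hdM)
  obtain ⟨T, hT, hact⟩ := c.exists_skew hp hr
  obtain ⟨e, rfl⟩ := c.exists_param hσ hT
  exact c.eq_univ_of_stable hσ S he₀ he₀0 hS e r hact

/-- With all root elements of all singular lines the vectors of pairs are full. -/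
theorem full_of_all (hM : Below K M) (hall : ∀ {y : ι → F}, c.h y y = 0 → y ≠ 0 → ∀ {r : Isom Q}, c.InZ y r → r ∈ M)
    {u v : ι → F} (hp : c.Pair u v) : Full M u := by
  have hQu : Q u = 0 := c.quad_zero hp.1
  have hline : ∀ a : K, RootMem M u (a • u) := fun a g hg => hall hp.1 hp.left_ne fun x hx => by
    rw [hg, eich_mulVec, c.tr, c.tr, LinearMap.map_smul₂, hx,
      c.quad_zero (x := a • u) (by simp [hp.1])]
    simp
  have horth : ∀ y, c.h u y = 0 → QuadraticMap.polar (⇑Q) u y = 0 := fun y hy => by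
    rw [c.tr, hy, map_zero]
  -- trace-zero multiples of the partner
  have hpart : ∀ b : K, Algebra.trace F K b = 0 → RootMem M u (b • v) := by
    intro b hb
    have := c.fdF
    obtain ⟨b₁, hb₁, hind⟩ : ∃ b₁ : K, Algebra.trace F K b₁ = 0 ∧ b₁ ∉ Submodule.span F {b} := by
      by_contra! hsub
      have h1 := Submodule.finrank_mono (show LinearMap.ker (Algebra.trace F K) ≤ Submodule.span F {b} from
        fun x hx => hsub x hx)
      have h2 := LinearMap.finrank_range_add_finrank_ker (Algebra.trace F K)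
      rw [LinearMap.range_eq_top.2 (Algebra.trace_surjective F K), finrank_top, Module.finrank_self,
        c.deg] at h2
      have h3 : finrank F (Submodule.span F ({b} : Set K)) ≤ 1 := by
        refine (finrank_span_le_card _).trans ?_
        simp
      omega
    obtain ⟨l, hlb, hlb₁⟩ : ∃ l : K, Algebra.trace F K (l * b) = 0 ∧ Algebra.trace F K (l * b₁) = 1 := by
      let Φ : K →ₗ[F] F := (Algebra.trace F K).comp (LinearMap.mulRight F b)
      let Ψ : K →ₗ[F] F := (Algebra.trace F K).comp (LinearMap.mulRight F b₁)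
      suffices ∃ l, Φ l = 0 ∧ Ψ l ≠ 0 by
        obtain ⟨l, h1, h2⟩ := this
        refine ⟨(Ψ l)⁻¹ • l, ?_, ?_⟩
        · rw [smul_mul_assoc, map_smul, show Algebra.trace F K (l * b) = Φ l from rfl, h1, smul_zero]
        · rw [smul_mul_assoc, map_smul, show Algebra.trace F K (l * b₁) = Ψ l from rfl, smul_eq_mul,
            inv_mul_cancel₀ h2]
      by_contra! hker
      refine hind (Submodule.mem_span_singleton.2 ?_)
      rcases eq_or_ne b 0 with rfl | hb0
      · refine ⟨0, ?_⟩
        rw [zero_smul]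
        exact (c.h_eq_of_trace fun l => by
          rw [mul_zero, map_zero]; exact (hker l (by simp [Φ])).symm)
      · obtain ⟨s, hs⟩ : ∃ s, Φ s ≠ 0 := by
          by_contra! h0
          exact hb0 (c.h_eq_of_trace fun l => by rw [mul_zero, map_zero]; exact h0 l)
        refine ⟨Ψ s / Φ s, c.h_eq_of_trace fun l => ?_⟩
        have h4 := hker (l - (Φ l / Φ s) • s) (by simp [div_mul_cancel₀ _ hs])
        rw [map_sub, map_smul, sub_eq_zero, smul_eq_mul] at h4
        rw [mul_smul_comm, map_smul, smul_eq_mul]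
        show Ψ s / Φ s * Φ l = Ψ l
        rw [h4]; ring
    -- move `u + l u` by a root element at the partner
    have hb₁v : Q (b₁ • v) = 0 := c.quad_zero (by simp [hp.2.1])
    have hbb : QuadraticMap.polar (⇑Q) (b₁ • v) (b • v) = 0 := by
      rw [c.tr]; simp [hp.2.1]
    set g := eichIso Q (b₁ • v) (b • v) hb₁v hbb with hg
    have hgM : g ∈ M := hall hp.2.1 hp.symm.left_ne fun x hx => by
      rw [hg, mat_eichIso, eich_mulVec, c.tr, c.tr, LinearMap.map_smul₂, LinearMap.map_smul₂, hx,
        c.quad_zero (x := b • v) (by simp [hp.2.1])]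
      simp
    have hbv : QuadraticMap.polar (⇑Q) u (b • v) = 0 := by
      rw [c.tr, map_smul, hp.2.2, smul_eq_mul, mul_one, hb]
    have hlu : ∀ l : K, QuadraticMap.polar (⇑Q) u (l • u) = 0 := fun l => horth _ (by simp [hp.1])
    have h1 := (hline l).conj hgM
    rw [hg, mat_eichIso, eich_mulVec, eich_mulVec, c.tr, c.tr, c.tr, c.tr] at h1
    have hvl : ∀ b : K, c.h (b • v) (l • u) = l * b := fun b => by
      rw [LinearMap.map_smul₂, map_smul, hp.vu, smul_eq_mul, smul_eq_mul, mul_one, mul_comm]
    have hvu : ∀ b : K, c.h (b • v) u = b := fun b => by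
      rw [LinearMap.map_smul₂, hp.vu, smul_eq_mul, mul_one]
    rw [hvl, hvl, hvu, hvu, hb, hb₁, hlb, hlb₁, c.quad_zero (x := b • v) (by simp [hp.2.1])] at h1
    simp only [zero_smul, one_smul, zero_mul, sub_zero, add_zero] at h1
    have h2 := h1.add hQu (by rw [QuadraticMap.polar_add_right, hlu, hbv, add_zero])
      (by rw [QuadraticMap.polar_neg_right, hlu, neg_zero]) ((hline l).neg hQu (hlu l))
    rwa [add_neg_cancel_comm] at h2
  -- the rest
  have hrest : ∀ w, c.Rest u v w → RootMem M u w := by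
    intro w hw
    obtain ⟨b, hb0, hb⟩ : ∃ b : K, b ≠ 0 ∧ Algebra.trace F K b = 0 := by
      have := c.fdF
      have h2 := LinearMap.finrank_range_add_finrank_ker (Algebra.trace F K)
      rw [LinearMap.range_eq_top.2 (Algebra.trace_surjective F K), finrank_top, Module.finrank_self,
        c.deg] at h2
      obtain ⟨b, hb, hb0⟩ := Submodule.exists_mem_ne_zero_of_ne_bot
        (p := LinearMap.ker (Algebra.trace F K)) fun e => by rw [e, finrank_bot] at h2; omega
      exact ⟨b, hb0, hb⟩
    set w' := b⁻¹ • w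
    have hw' : c.Rest u v w' := ⟨by simp [w', hw.1], by simp [w', hw.2]⟩
    obtain ⟨g, hgM, -, -, hg⟩ := c.exists_eK hM hp.1 hw'.1
    have h1 := (hpart b hb).conj hgM
    rw [hg, hg, c.eK_self hp.1 hw'.1, c.eK_partner hp hw', show b • w' = w from smul_inv_smul₀ hb0 w] at h1
    set a := c.q w' * b
    have p1 : QuadraticMap.polar (⇑Q) u (b • v) = 0 := by rw [c.tr, map_smul, hp.2.2, smul_eq_mul, mul_one, hb]
    have p2 : QuadraticMap.polar (⇑Q) u (a • u) = 0 := horth _ (by simp [hp.1])
    have p3 : QuadraticMap.polar (⇑Q) u w = 0 := horth _ hw.1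
    have h2 := (h1.add hQu (by
        simp only [QuadraticMap.polar_sub_right, QuadraticMap.polar_add_right, p1, p2, p3]; simp)
      p2 (hline a)).add hQu (by
        simp only [QuadraticMap.polar_sub_right, QuadraticMap.polar_add_right, p1, p2, p3]; simp)
      (by rw [QuadraticMap.polar_neg_right, p1, neg_zero]) ((hpart b hb).neg hQu p1)
    rwa [sub_add_cancel, add_neg_cancel_comm] at h2
  intro y hy
  have htr : Algebra.trace F K (c.h u y) = 0 := by rw [← c.tr, hy]
  have p1 : ∀ a : K, QuadraticMap.polar (⇑Q) u (a • u) = 0 := fun a => horth _ (by simp [hp.1])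
  have p2 : QuadraticMap.polar (⇑Q) u (c.h u y • v) = 0 := by
    rw [c.tr, map_smul, hp.2.2, smul_eq_mul, mul_one, htr]
  have hR := hp.rest_spec y
  rw [c.decomp u v y]
  exact ((hline _).add hQu (p1 _) p2 (hpart _ htr)).add hQu
    (by rw [QuadraticMap.polar_add_right, p1, p2, add_zero]) (horth _ hR.1) (hrest _ hR)

/-- One root element on a singular line puts `Ω` inside. -/
theorem omega_le_of_inZ (hM : Below K M) {u : ι → F} (hu : c.h u u = 0) (hu0 : u ≠ 0) {r₀ : Isom Q}
    (hr₀ : r₀ ∈ M) (hz₀ : c.InZ u r₀) (hne : r₀ ≠ 1) : Cfsg.Omega F ⇑Q ≤ M := by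
  have := c.finite
  obtain ⟨v₀, hp₀⟩ := c.exists_pair_of_singular hu hu0
  have hall : ∀ {y : ι → F}, c.h y y = 0 → y ≠ 0 → ∀ {r : Isom Q}, c.InZ y r → r ∈ M := by
    intro y hy hy0 r hr
    obtain ⟨g, hgM, hgl, -, a, ha, hga⟩ := c.exists_map_line hM hu hu0 hy hy0
    have : g⁻¹ * r * g ∈ M := c.inZ_mem_of_one hM hp₀ hr₀ hz₀ hne fun x hx => by
      have h1 : c.h y (mat Q g *ᵥ x) = 0 := by
        have e := c.h_map hgl u x
        rw [hga, hx, LinearMap.map_smul₂, smul_eq_mul] at e
        exact (mul_eq_zero.1 e).resolve_left ha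
      rw [mat_mul, mat_mul, ← mulVec_mulVec, ← mulVec_mulVec, hr _ h1, inv_mulVec_cancel]
    have h2 := M.mul_mem (M.mul_mem hgM this) (M.inv_mem hgM)
    rwa [mul_assoc g⁻¹ r g, mul_inv_cancel_left, mul_inv_cancel_right] at h2
  have hfull : ∀ {u v : ι → F}, c.Pair u v → Full M u := fun hp => c.full_of_all hM hall hp
  have hcard : 5 ≤ Fintype.card ι := by
    have := Module.finrank_mul_finrank F K (ι → F)
    rw [c.deg, Module.finrank_pi] at this
    have := c.dim
    omega
  obtain ⟨k, hk⟩ : ∃ k : K, Algebra.trace F K k ≠ 0 := by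
    have := c.fdF
    obtain ⟨k, hk⟩ := Algebra.trace_surjective F K 1
    exact ⟨k, by rw [hk]; exact one_ne_zero⟩
  have hp' : c.Pair (k⁻¹ • u) (k • v₀) := by
    have hk0 : k ≠ 0 := fun e => hk (by rw [e, map_zero])
    exact ⟨by simp [hp₀.1], by simp [hp₀.2.1], by simp [hp₀.2.2, hk0]⟩
  refine omega_le_of_full_pair c.nondeg hcard (v := k • v₀) (c.quad_zero hp₀.1) (c.quad_zero hp'.2.1) ?_
    (hfull hp₀) (hfull hp'.symm)
  rw [c.tr, map_smul, hp₀.2.2, smul_eq_mul, mul_one]
  exact hk

end Ext

end CfsgLib.OrthExtR
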